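import Mathlib
import Cfsg.Agent.Components.Supplement
import Cfsg.Agent.Coprime.Fitting
import Cfsg.Agent.Transfer.Basic
import Cfsg.Prelude.Def_LocalStructure

/-! `p`-reduced normal subgroups and the largest one, `Y_L`. -/

set_option linter.style.haveILetI false
set_option linter.unusedSectionVars false

namespace Cfsg.Lib.Reduced

open Cfsg
open scoped Pointwise commutatorElement

variable {G : Type*} [Group G] [Finite G] {p : ℕ} [Fact p.Prime]

/-- Every element of `N` has a `p`-power in `C`. -/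
def PMod (p : ℕ) (N C : Subgroup G) : Prop := ∀ x ∈ N, ∃ a : ℕ, x ^ p ^ a ∈ C

/-- The reducedness condition of `V`, in subnormal form. -/
def Red (p : ℕ) (V : Subgroup G) : Prop :=
  ∀ N : Subgroup G, N.IsSubnormal → PMod p N (Subgroup.centralizer (V : Set G)) →
    N ≤ Subgroup.centralizer (V : Set G)

theorem isReduced_iff (V : Subgroup G) :
    IsPReducedNormal p V ↔ V.Normal ∧ IsElementaryAbelian p V ∧ Red p V := by
  constructor
  · rintro ⟨hV, hel, hC, hcore⟩
    refine ⟨hV, hel, fun N hN hmod => ?_⟩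
    haveI := hC
    set q := QuotientGroup.mk' (Subgroup.centralizer (V : Set G))
    have hp : IsPGroup p (N.map q) := by
      rintro ⟨_, x, hx, rfl⟩
      obtain ⟨a, ha⟩ := hmod x hx
      refine ⟨a, Subtype.ext ?_⟩
      show q x ^ p ^ a = 1
      rw [← map_pow]
      exact (QuotientGroup.eq_one_iff _).2 ha
    have h1 := Cfsg.Lib.Components.le_pCore_of_subnormal
      (hN.map (QuotientGroup.mk'_surjective _)) hp
    rw [hcore, le_bot_iff, Subgroup.map_eq_bot_iff, QuotientGroup.ker_mk'] at h1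
    exact h1
  · rintro ⟨hV, hel, hred⟩
    haveI := hV
    refine ⟨hV, hel, inferInstance, ?_⟩
    set C := Subgroup.centralizer (V : Set G)
    set N := (pCore p (G ⧸ C)).comap (QuotientGroup.mk' C)
    haveI : (pCore p (G ⧸ C)).Normal := Cfsg.Lib.Components.pCore_normal' p
    have hle : N ≤ C := by
      refine hred N (Subgroup.Normal.isSubnormal (Subgroup.Normal.comap inferInstance _)) ?_
      intro x hx
      obtain ⟨a, ha⟩ := (Cfsg.Lib.Components.isPGroup_pCore (G := G ⧸ C) p) ⟨_, hx⟩
      refine ⟨a, (QuotientGroup.eq_one_iff _).1 ?_⟩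
      exact congrArg Subtype.val ha
    rw [eq_bot_iff]
    intro y hy
    obtain ⟨x, rfl⟩ := QuotientGroup.mk'_surjective C y
    exact (QuotientGroup.eq_one_iff x).2 (hle hy)

theorem isPGroup_of_elem {V : Subgroup G} (hel : IsElementaryAbelian p V) : IsPGroup p V :=
  fun x => ⟨1, Subtype.ext (by rw [pow_one]; exact hel.2 x x.2)⟩

theorem commute_of_elem {V : Subgroup G} (hel : IsElementaryAbelian p V) {x y : G} (hx : x ∈ V)
    (hy : y ∈ V) : x * y = y * x :=
  congrArg Subtype.val (hel.1.is_comm.comm ⟨x, hx⟩ ⟨y, hy⟩)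

theorem pGroup_normal_le_centralizer {V : Subgroup G} (h : IsPReducedNormal p V) (N : Subgroup G)
    (hN : N.Normal) (hp : IsPGroup p N) : N ≤ Subgroup.centralizer (V : Set G) := by
  refine ((isReduced_iff V).1 h).2.2 N hN.isSubnormal fun x hx => ?_
  obtain ⟨a, ha⟩ := hp ⟨x, hx⟩
  refine ⟨a, ?_⟩
  rw [show x ^ p ^ a = 1 from congrArg Subtype.val ha]
  exact one_mem _

theorem le_pCore' {V : Subgroup G} (h : IsPReducedNormal p V) : V ≤ pCore p G :=
  le_sSup (show V ∈ {M : Subgroup G | M.Normal ∧ IsPGroup p M} from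
    ⟨h.1, isPGroup_of_elem h.2.1⟩)

theorem pCore_le_centralizer {V : Subgroup G} (h : IsPReducedNormal p V) :
    pCore p G ≤ Subgroup.centralizer (V : Set G) :=
  pGroup_normal_le_centralizer h _ (Cfsg.Lib.Components.pCore_normal' p)
    (Cfsg.Lib.Components.isPGroup_pCore p)

theorem isReduced_bot : IsPReducedNormal p (⊥ : Subgroup G) := by
  rw [isReduced_iff]
  refine ⟨inferInstance, ⟨inferInstance, fun x hx => by rw [Subgroup.mem_bot.1 hx, one_pow]⟩,
    fun N _ _ => ?_⟩
  intro x _
  refine Subgroup.mem_centralizer_iff.2 fun y hy => ?_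
  rw [Subgroup.mem_bot.1 hy]; simp

theorem isReduced_sup {V W : Subgroup G} (hV : IsPReducedNormal p V) (hW : IsPReducedNormal p W) :
    IsPReducedNormal p (V ⊔ W) := by
  haveI := hV.1
  haveI := hW.1
  have hVW : ∀ v ∈ V, ∀ w ∈ W, w * v = v * w := fun v hv w hw =>
    Subgroup.mem_centralizer_iff.1
      (pGroup_normal_le_centralizer hW V hV.1 (isPGroup_of_elem hV.2.1) hv) w hw
  have hVc : V ⊔ W ≤ Subgroup.centralizer (V : Set G) ⊓ Subgroup.centralizer (W : Set G) := by
    refine sup_le (le_inf ?_ ?_) (le_inf ?_ ?_)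
    · exact fun v hv => Subgroup.mem_centralizer_iff.2 fun u hu => commute_of_elem hV.2.1 hu hv
    · exact fun v hv => Subgroup.mem_centralizer_iff.2 fun u hu => hVW v hv u hu
    · exact fun w hw => Subgroup.mem_centralizer_iff.2 fun u hu => (hVW u hu w hw).symm
    · exact fun w hw => Subgroup.mem_centralizer_iff.2 fun u hu => commute_of_elem hW.2.1 hu hw
  rw [isReduced_iff]
  refine ⟨inferInstance, ⟨⟨⟨fun a b => Subtype.ext ?_⟩⟩, fun x hx => ?_⟩, fun N hN hmod => ?_⟩
  · have h1 : V ⊔ W ≤ Subgroup.centralizer ({(a : G)} : Set G) := by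
      refine sup_le (fun v hv => ?_) (fun w hw => ?_) <;> rw [Subgroup.mem_centralizer_singleton_iff]
      · exact Subgroup.mem_centralizer_iff.1 (hVc a.2).1 v hv
      · exact Subgroup.mem_centralizer_iff.1 (hVc a.2).2 w hw
    exact (Subgroup.mem_centralizer_singleton_iff.1 (h1 b.2)).symm
  · obtain ⟨v, hv, w, hw, rfl⟩ := Subgroup.mem_sup_of_normal_left.1 hx
    rw [Commute.mul_pow (hVW v hv w hw).symm, hV.2.1.2 v hv, hW.2.1.2 w hw, one_mul]
  · have h1 := ((isReduced_iff V).1 hV).2.2 N hN fun x hx => (hmod x hx).imp fun a ha =>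
      Subgroup.centralizer_le (SetLike.coe_subset_coe.mpr le_sup_left) ha
    have h2 := ((isReduced_iff W).1 hW).2.2 N hN fun x hx => (hmod x hx).imp fun a ha =>
      Subgroup.centralizer_le (SetLike.coe_subset_coe.mpr le_sup_right) ha
    intro x hx
    refine Subgroup.mem_centralizer_iff.2 fun y hy => ?_
    obtain ⟨v, hv, w, hw, rfl⟩ := Subgroup.mem_sup_of_normal_left.1 hy
    rw [mul_assoc, Subgroup.mem_centralizer_iff.1 (h2 hx) w hw, ← mul_assoc,
      Subgroup.mem_centralizer_iff.1 (h1 hx) v hv, mul_assoc]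

theorem largest_isReduced : IsPReducedNormal p (largestPReduced p G) := by
  classical
  have key : ∀ s : Finset (Subgroup G), (∀ V ∈ s, IsPReducedNormal p V) →
      IsPReducedNormal p (s.sup id) := by
    intro s
    induction s using Finset.induction with
    | empty => intro _; simpa using isReduced_bot
    | insert a s _ ih =>
      intro h
      rw [Finset.sup_insert]
      exact isReduced_sup (h a (Finset.mem_insert_self a s))
        (ih fun V hV => h V (Finset.mem_insert_of_mem hV))
  haveI : Fintype (Subgroup G) := Fintype.ofFinite _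
  have heq : largestPReduced p G =
      (Finset.univ.filter fun V : Subgroup G => IsPReducedNormal p V).sup id := by
    refine le_antisymm (sSup_le fun V hV => ?_) (Finset.sup_le fun V hV => ?_)
    · exact Finset.le_sup (f := id) (Finset.mem_filter.2 ⟨Finset.mem_univ V, hV⟩)
    · exact le_sSup (Finset.mem_filter.1 hV).2
  rw [heq]
  exact key _ fun V hV => (Finset.mem_filter.1 hV).2

theorem le_largest {V : Subgroup G} (h : IsPReducedNormal p V) : V ≤ largestPReduced p G :=
  le_sSup h

theorem eq_largest {Y : Subgroup G} (hY : IsPReducedNormal p Y)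
    (hmax : ∀ V : Subgroup G, IsPReducedNormal p V → V ≤ Y) : Y = largestPReduced p G :=
  le_antisymm (le_largest hY) (hmax _ largest_isReduced)

/-- `Ω₁(Z(T))`. -/
abbrev omegaZ (p : ℕ) (T : Subgroup G) : Subgroup G :=
  omegaOne p (T ⊓ Subgroup.centralizer (T : Set G))

theorem omegaZ_le (T : Subgroup G) : omegaZ p T ≤ T ⊓ Subgroup.centralizer (T : Set G) :=
  (Subgroup.closure_le _).2 fun _ hx => hx.1

theorem isElem_omegaZ (T : Subgroup G) : IsElementaryAbelian p (omegaZ p T) := by
  refine ⟨⟨⟨fun a b => Subtype.ext ?_⟩⟩, fun x hx => ?_⟩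
  · exact Subgroup.mem_centralizer_iff.1 (omegaZ_le T b.2).2 a (omegaZ_le T a.2).1
  · induction hx using Subgroup.closure_induction with
    | mem y hy => exact hy.2
    | one => exact one_pow p
    | mul a b ha hb iha ihb =>
      have hc : Commute a b :=
        Subgroup.mem_centralizer_iff.1 (omegaZ_le T hb).2 a (omegaZ_le T ha).1
      rw [hc.mul_pow, iha, ihb, one_mul]
    | inv a _ iha => rw [inv_pow, iha, inv_one]

theorem isElem_of_le {V W : Subgroup G} (h : IsElementaryAbelian p W) (hle : V ≤ W) :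
    IsElementaryAbelian p V :=
  ⟨⟨⟨fun a b => Subtype.ext (commute_of_elem h (hle a.2) (hle b.2))⟩⟩, fun x hx => h.2 x (hle hx)⟩

theorem le_omegaZ_pCore {V : Subgroup G} (h : IsPReducedNormal p V) :
    V ≤ omegaZ p (pCore p G) := by
  intro v hv
  refine Subgroup.subset_closure ⟨Subgroup.mem_inf.2 ⟨le_pCore' h hv, ?_⟩, h.2.1.2 v hv⟩
  exact Subgroup.mem_centralizer_iff.2 fun y hy =>
    (Subgroup.mem_centralizer_iff.1 (pCore_le_centralizer h hy) v hv).symm

/-! The closure of `Ω₁(Z(S))`. -/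

/-- `Z_G`. -/
abbrev zClosure (p : ℕ) (G : Type*) [Group G] : Subgroup G :=
  ⨆ S : Sylow p G, omegaZ p (S : Subgroup G)

theorem map_conj_omegaZ_le (T : Subgroup G) (g : G) :
    (omegaZ p T).map (MulAut.conj g).toMonoidHom ≤
      omegaZ p (T.map (MulAut.conj g).toMonoidHom) := by
  rw [omegaZ, omegaOne, MonoidHom.map_closure, omegaZ, omegaOne]
  refine Subgroup.closure_mono ?_
  rintro _ ⟨y, ⟨hy, hyp⟩, rfl⟩
  refine ⟨Subgroup.mem_inf.2 ⟨⟨y, hy.1, rfl⟩, ?_⟩, by rw [← map_pow, hyp, map_one]⟩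
  refine Subgroup.mem_centralizer_iff.2 ?_
  rintro _ ⟨t, ht, rfl⟩
  rw [← map_mul, ← map_mul, Subgroup.mem_centralizer_iff.1 hy.2 t ht]

theorem map_omegaZ {H : Type*} [Group H] (f : G →* H) (hf : Function.Injective f) (T : Subgroup G) :
    (omegaZ p T).map f = omegaOne p (T.map f ⊓ Subgroup.centralizer ((T.map f : Subgroup H) : Set H)) := by
  rw [omegaZ, omegaOne, MonoidHom.map_closure, omegaOne]
  congr 1
  ext y
  constructor
  · rintro ⟨x, ⟨hx, hxp⟩, rfl⟩
    refine ⟨Subgroup.mem_inf.2 ⟨⟨x, hx.1, rfl⟩, ?_⟩, by rw [← map_pow, hxp, map_one]⟩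
    refine Subgroup.mem_centralizer_iff.2 ?_
    rintro _ ⟨t, ht, rfl⟩
    rw [← map_mul, ← map_mul, Subgroup.mem_centralizer_iff.1 hx.2 t ht]
  · rintro ⟨hy, hyp⟩
    obtain ⟨x, hx, rfl⟩ := hy.1
    refine ⟨x, ⟨Subgroup.mem_inf.2 ⟨hx, ?_⟩, hf (by rw [map_pow, map_one]; exact hyp)⟩, rfl⟩
    refine Subgroup.mem_centralizer_iff.2 fun t ht => hf ?_
    rw [map_mul, map_mul]
    exact Subgroup.mem_centralizer_iff.1 hy.2 (f t) ⟨t, ht, rfl⟩

theorem sylowCenterClosure_eq (L : Subgroup G) :
    sylowCenterClosure p L = (zClosure p L).map L.subtype := by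
  rw [Subgroup.map_iSup, sylowCenterClosure]
  exact iSup_congr fun S => (map_omegaZ L.subtype (Subgroup.subtype_injective L) _).symm

theorem zClosure_normal : (zClosure p G).Normal := by
  refine ⟨fun x hx g => ?_⟩
  have h : (zClosure p G).map (MulAut.conj g).toMonoidHom ≤ zClosure p G := by
    rw [Subgroup.map_iSup]
    refine iSup_le fun S => (map_conj_omegaZ_le _ g).trans ?_
    exact le_iSup (fun S : Sylow p G => omegaZ p (S : Subgroup G)) (g • S)
  exact h ⟨x, hx, rfl⟩

variable (hchar : Subgroup.centralizer (pCore p G : Set G) ≤ pCore p G)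
include hchar

theorem zClosure_le : zClosure p G ≤ omegaZ p (pCore p G) := by
  refine iSup_le fun S => (Subgroup.closure_le _).2 fun x hx => ?_
  have hxc : x ∈ Subgroup.centralizer (pCore p G : Set G) :=
    Subgroup.centralizer_le (SetLike.coe_subset_coe.mpr (Cfsg.Lib.Coprime.pCore_le_sylow p S)) hx.1.2
  exact Subgroup.subset_closure ⟨Subgroup.mem_inf.2 ⟨hchar hxc, hxc⟩, hx.2⟩

omit hchar in
/-- A normal subgroup that is a `p`-group modulo `C` is `(C ⊓ N) · (T ⊓ N)`. -/
theorem le_sup_inf_sylow (N C : Subgroup G) [N.Normal] [C.Normal] (hmod : PMod p N C)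
    (T : Sylow p G) : N ≤ C ⊔ (T : Subgroup G) ⊓ N := by
  set q := QuotientGroup.mk' C
  intro x hx
  have hp : IsPGroup p (N.map q) := by
    rintro ⟨_, y, hy, rfl⟩
    obtain ⟨a, ha⟩ := hmod y hy
    refine ⟨a, Subtype.ext ?_⟩
    show q y ^ p ^ a = 1
    rw [← map_pow]
    exact (QuotientGroup.eq_one_iff _).2 ha
  haveI : (N.map q).Normal := Subgroup.Normal.map inferInstance q (QuotientGroup.mk'_surjective C)
  set M : Subgroup G := C ⊔ N with hM
  obtain ⟨R, hR⟩ : ∃ R : Sylow p N, (R : Subgroup N).map N.subtype = (T : Subgroup G) ⊓ N := by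
    obtain ⟨R, hR⟩ := ((T.isPGroup'.to_le inf_le_left).comap_of_injective N.subtype
      (Subgroup.subtype_injective N) :
        IsPGroup p (((T : Subgroup G) ⊓ N).subgroupOf N)).exists_le_sylow
    refine ⟨R, le_antisymm ?_ fun y hy => ⟨⟨y, hy.2⟩, hR (x := ⟨y, hy.2⟩) hy, rfl⟩⟩
    obtain ⟨T', hT'⟩ := (R.isPGroup'.map N.subtype).exists_le_sylow
    obtain ⟨g, hg⟩ := MulAction.exists_smul_eq G T' T
    have hle : ((R : Subgroup N).map N.subtype).map (MulAut.conj g).toMonoidHom ≤
        (T : Subgroup G) ⊓ N := by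
      rintro _ ⟨y, hy, rfl⟩
      refine Subgroup.mem_inf.2 ⟨hg ▸ ⟨y, hT' hy, rfl⟩, ?_⟩
      exact (inferInstance : N.Normal).conj_mem y (Subgroup.map_subtype_le _ hy) g
    refine (Subgroup.eq_of_le_of_card_ge (H := (T : Subgroup G) ⊓ N)
      (K := (R : Subgroup N).map N.subtype)
      (fun y hy => ⟨⟨y, hy.2⟩, hR (x := ⟨y, hy.2⟩) hy, rfl⟩) ?_).ge
    refine le_trans (le_of_eq ?_) (Subgroup.card_le_of_le hle)
    exact Nat.card_congr (Subgroup.equivMapOfInjective _ _ (MulAut.conj g).injective).toEquiv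
  have h1 := congrArg (Subgroup.map N.subtype) (Cfsg.Lib.Transfer.pResidual_sup_sylow R)
  rw [Subgroup.map_sup, ← MonoidHom.range_eq_map, Subgroup.range_subtype, hR] at h1
  rw [← h1] at hx
  refine (sup_le_sup_right ?_ _ : (pResidual p N).map N.subtype ⊔ (T : Subgroup G) ⊓ N ≤ _) hx
  rw [pResidual, MonoidHom.map_closure, Subgroup.closure_le]
  rintro _ ⟨y, hy, rfl⟩
  refine (QuotientGroup.eq_one_iff _).1 ?_
  obtain ⟨a, ha⟩ := hp ⟨q (y : G), ⟨y, y.2, rfl⟩⟩
  have h2 : q (y : G) ^ p ^ a = 1 := congrArg Subtype.val ha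
  have h3 : orderOf (q (y : G)) = 1 := by
    refine Nat.eq_one_of_dvd_coprimes (Nat.Coprime.pow_right a hy) ?_ (orderOf_dvd_of_pow_eq_one h2)
    exact (orderOf_map_dvd q _).trans (Subgroup.orderOf_coe y).dvd
  exact orderOf_eq_one_iff.1 h3

theorem zClosure_isReduced : IsPReducedNormal p (zClosure p G) := by
  haveI := zClosure_normal (G := G) (p := p)
  rw [isReduced_iff]
  refine ⟨inferInstance, isElem_of_le (isElem_omegaZ _) (zClosure_le hchar), ?_⟩
  -- it suffices to treat normal subgroups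
  suffices h : IsPReducedNormal p (zClosure p G) from ((isReduced_iff _).1 h).2.2
  refine ⟨inferInstance, isElem_of_le (isElem_omegaZ _) (zClosure_le hchar), inferInstance, ?_⟩
  set C := Subgroup.centralizer (zClosure p G : Set G)
  haveI : (pCore p (G ⧸ C)).Normal := Cfsg.Lib.Components.pCore_normal' p
  set N := (pCore p (G ⧸ C)).comap (QuotientGroup.mk' C)
  haveI : N.Normal := Subgroup.Normal.comap inferInstance _
  have hmod : PMod p N C := by
    intro x hx
    obtain ⟨a, ha⟩ := (Cfsg.Lib.Components.isPGroup_pCore (G := G ⧸ C) p) ⟨_, hx⟩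
    exact ⟨a, (QuotientGroup.eq_one_iff _).1 (congrArg Subtype.val ha)⟩
  have hle : N ≤ C := by
    intro x hx
    refine Subgroup.mem_centralizer_iff.2 fun z hz => ?_
    have : zClosure p G ≤ Subgroup.centralizer ({x} : Set G) := by
      refine iSup_le fun S => ?_
      intro w hw
      have hmem := le_sup_inf_sylow N C hmod S hx
      obtain ⟨c, hc, t, ht, rfl⟩ := Subgroup.mem_sup_of_normal_left.1 hmem
      rw [Subgroup.mem_centralizer_singleton_iff]
      have h1 : w * c = c * w := Subgroup.mem_centralizer_iff.1 hc w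
        (le_iSup (fun S : Sylow p G => omegaZ p (S : Subgroup G)) S hw)
      have h2 : t * w = w * t := Subgroup.mem_centralizer_iff.1 (omegaZ_le _ hw).2 t ht.1
      rw [← mul_assoc, h1, mul_assoc, ← h2, mul_assoc]
    exact Subgroup.mem_centralizer_singleton_iff.1 (this hz)
  rw [eq_bot_iff]
  intro y hy
  obtain ⟨x, rfl⟩ := QuotientGroup.mk'_surjective C y
  exact (QuotientGroup.eq_one_iff x).2 (hle hy)

theorem zClosure_le_largest : zClosure p G ≤ largestPReduced p G :=
  le_largest (zClosure_isReduced hchar)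

theorem isReduced_normalClosure (T : Sylow p G) (R : Subgroup G) (hTR : (T : Subgroup G) ≤ R)
    (X : Subgroup R) (hX : IsPReducedNormal p X) :
    IsPReducedNormal p (Subgroup.normalClosure ((X.map R.subtype : Subgroup G) : Set G)) := by
  set V := Subgroup.normalClosure ((X.map R.subtype : Subgroup G) : Set G) with hV
  have hXZ : X.map R.subtype ≤ omegaZ p (pCore p G) := by
    rintro _ ⟨x, hx, rfl⟩
    have hxc : (x : G) ∈ Subgroup.centralizer (pCore p G : Set G) := by
      refine Subgroup.mem_centralizer_iff.2 fun y hy => ?_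
      have hyR : y ∈ R := hTR (Cfsg.Lib.Coprime.pCore_le_sylow p T hy)
      have hy' : (⟨y, hyR⟩ : R) ∈ pCore p R :=
        le_sSup (show (pCore p G).subgroupOf R ∈ {M : Subgroup R | M.Normal ∧ IsPGroup p M} from
          ⟨Subgroup.normal_subgroupOf, (Cfsg.Lib.Components.isPGroup_pCore p).comap_of_injective
            R.subtype (Subgroup.subtype_injective R)⟩) hy
      exact (congrArg Subtype.val
        (Subgroup.mem_centralizer_iff.1 (pCore_le_centralizer hX hy') x hx)).symm
    refine Subgroup.subset_closure ⟨Subgroup.mem_inf.2 ⟨hchar hxc, hxc⟩, ?_⟩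
    exact congrArg Subtype.val (hX.2.1.2 x hx)
  haveI : (pCore p G).Normal := Cfsg.Lib.Components.pCore_normal' p
  haveI hΩn : (omegaZ p (pCore p G)).Normal := by
    refine ⟨fun x hx g => ?_⟩
    have := map_conj_omegaZ_le (p := p) (pCore p G) g ⟨x, hx, rfl⟩
    rwa [show (pCore p G).map (MulAut.conj g).toMonoidHom = pCore p G from
      Cfsg.Lib.Transfer.map_conj_eq_self_iff.2 (by rw [Subgroup.normalizer_eq_top]; trivial)] at this
  have hVZ : V ≤ omegaZ p (pCore p G) :=
    Subgroup.normalClosure_le_normal (SetLike.coe_subset_coe.mpr hXZ)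
  rw [isReduced_iff]
  refine ⟨inferInstance, isElem_of_le (isElem_omegaZ _) hVZ, ?_⟩
  suffices h : IsPReducedNormal p V from ((isReduced_iff _).1 h).2.2
  refine ⟨inferInstance, isElem_of_le (isElem_omegaZ _) hVZ, inferInstance, ?_⟩
  set C := Subgroup.centralizer (V : Set G)
  haveI : (pCore p (G ⧸ C)).Normal := Cfsg.Lib.Components.pCore_normal' p
  set N := (pCore p (G ⧸ C)).comap (QuotientGroup.mk' C)
  haveI : N.Normal := Subgroup.Normal.comap inferInstance _
  have hmod : PMod p N C := by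
    intro x hx
    obtain ⟨a, ha⟩ := (Cfsg.Lib.Components.isPGroup_pCore (G := G ⧸ C) p) ⟨_, hx⟩
    exact ⟨a, (QuotientGroup.eq_one_iff _).1 (congrArg Subtype.val ha)⟩
  have hXC : N ≤ Subgroup.centralizer ((X.map R.subtype : Subgroup G) : Set G) := by
    refine (le_sup_inf_sylow N C hmod T).trans (sup_le
      (Subgroup.centralizer_le (SetLike.coe_subset_coe.mpr Subgroup.le_normalClosure)) ?_)
    intro t ht
    have h1 := ((isReduced_iff X).1 hX).2.2 (N.subgroupOf R)
      (Subgroup.Normal.isSubnormal Subgroup.normal_subgroupOf) (fun x hx => by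
        obtain ⟨a, ha⟩ := hmod x hx
        refine ⟨a, Subgroup.mem_centralizer_iff.2 fun y hy => Subtype.ext ?_⟩
        exact Subgroup.mem_centralizer_iff.1 ha y (Subgroup.le_normalClosure ⟨y, hy, rfl⟩))
      (x := ⟨t, hTR ht.1⟩) ht.2
    refine Subgroup.mem_centralizer_iff.2 ?_
    rintro _ ⟨y, hy, rfl⟩
    exact congrArg Subtype.val (Subgroup.mem_centralizer_iff.1 h1 y hy)
  have hle : N ≤ C := by
    intro n hn
    refine Subgroup.mem_centralizer_iff.2 fun v hv => ?_
    have hsub : V ≤ Subgroup.centralizer (N : Set G) :=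
      Subgroup.normalClosure_le_normal (SetLike.coe_subset_coe.mpr fun y hy =>
        Subgroup.mem_centralizer_iff.2 fun m hm =>
          (Subgroup.mem_centralizer_iff.1 (hXC hm) y hy).symm)
    exact (Subgroup.mem_centralizer_iff.1 (hsub hv) n hn).symm
  rw [eq_bot_iff]
  intro y hy
  obtain ⟨x, rfl⟩ := QuotientGroup.mk'_surjective C y
  exact (QuotientGroup.eq_one_iff x).2 (hle hy)

omit hchar in
theorem exists_frattini (T : Sylow p G) (C : Subgroup G) [C.Normal] (g : G) :
    ∃ a ∈ Subgroup.normalizer (((T : Subgroup G) ⊓ C : Subgroup G) : Set G), ∃ c ∈ C,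
      g = a * c := by
  obtain ⟨R, hR⟩ : ∃ R : Sylow p C, (R : Subgroup C).map C.subtype = (T : Subgroup G) ⊓ C := by
    obtain ⟨R, hR⟩ := ((T.isPGroup'.to_le inf_le_left).comap_of_injective C.subtype
      (Subgroup.subtype_injective C) :
        IsPGroup p (((T : Subgroup G) ⊓ C).subgroupOf C)).exists_le_sylow
    refine ⟨R, le_antisymm ?_ fun y hy => ⟨⟨y, hy.2⟩, hR (x := ⟨y, hy.2⟩) hy, rfl⟩⟩
    obtain ⟨T', hT'⟩ := (R.isPGroup'.map C.subtype).exists_le_sylow
    obtain ⟨h, hh⟩ := MulAction.exists_smul_eq G T' T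
    have hle : ((R : Subgroup C).map C.subtype).map (MulAut.conj h).toMonoidHom ≤
        (T : Subgroup G) ⊓ C := by
      rintro _ ⟨y, hy, rfl⟩
      refine Subgroup.mem_inf.2 ⟨hh ▸ ⟨y, hT' hy, rfl⟩, ?_⟩
      exact (inferInstance : C.Normal).conj_mem y (Subgroup.map_subtype_le _ hy) h
    refine (Subgroup.eq_of_le_of_card_ge (H := (T : Subgroup G) ⊓ C)
      (K := (R : Subgroup C).map C.subtype)
      (fun y hy => ⟨⟨y, hy.2⟩, hR (x := ⟨y, hy.2⟩) hy, rfl⟩) ?_).ge
    refine le_trans (le_of_eq ?_) (Subgroup.card_le_of_le hle)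
    exact Nat.card_congr (Subgroup.equivMapOfInjective _ _ (MulAut.conj h).injective).toEquiv
  have h1 : g ∈ Subgroup.normalizer (((R : Subgroup C).map C.subtype : Subgroup G) : Set G) ⊔ C := by
    rw [Sylow.normalizer_sup_eq_top R]; trivial
  rw [Subgroup.mem_sup_of_normal_right] at h1
  obtain ⟨a, ha, c, hc, hac⟩ := h1
  exact ⟨a, hR ▸ ha, c, hc, hac.symm⟩

theorem omegaZ_inf_le (T : Sylow p G) :
    omegaZ p ((T : Subgroup G) ⊓ Subgroup.centralizer (largestPReduced p G : Set G)) ≤
      largestPReduced p G := by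
  set Y := largestPReduced p G with hY
  haveI := (largest_isReduced (G := G) (p := p)).1
  set C := Subgroup.centralizer (Y : Set G) with hC
  set TL := (T : Subgroup G) ⊓ C with hTL
  set X := omegaZ p TL with hX
  haveI : (pCore p G).Normal := Cfsg.Lib.Components.pCore_normal' p
  have hPTL : pCore p G ≤ TL :=
    le_inf (Cfsg.Lib.Coprime.pCore_le_sylow p T) (pCore_le_centralizer largest_isReduced)
  have hXc : X ≤ Subgroup.centralizer (pCore p G : Set G) :=
    (omegaZ_le TL).trans (inf_le_right.trans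
      (Subgroup.centralizer_le (SetLike.coe_subset_coe.mpr hPTL)))
  set V := Subgroup.normalClosure (X : Set G) with hV
  have hVP : V ≤ pCore p G := Subgroup.normalClosure_le_normal
    (SetLike.coe_subset_coe.mpr (hXc.trans hchar))
  have hVC : V ≤ Subgroup.centralizer (pCore p G : Set G) :=
    Subgroup.normalClosure_le_normal (SetLike.coe_subset_coe.mpr hXc)
  have hYX : Y ≤ X := by
    intro y hy
    refine Subgroup.subset_closure ⟨Subgroup.mem_inf.2 ⟨hPTL (le_pCore' largest_isReduced hy), ?_⟩,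
      largest_isReduced.2.1.2 y hy⟩
    exact Subgroup.mem_centralizer_iff.2 fun t ht =>
      (Subgroup.mem_centralizer_iff.1 ht.2 y hy).symm
  have hel : IsElementaryAbelian p V := by
    refine ⟨⟨⟨fun a b => Subtype.ext ?_⟩⟩, fun x hx => ?_⟩
    · exact Subgroup.mem_centralizer_iff.1 (hVC b.2) a (hVP a.2)
    · induction hx using Subgroup.closure_induction with
      | mem y hy =>
        obtain ⟨z, hz, hzy⟩ := Group.mem_conjugatesOfSet_iff.1 hy
        obtain ⟨g, rfl⟩ := isConj_iff.1 hzy
        rw [conj_pow, (isElem_omegaZ TL).2 z hz, mul_one, mul_inv_cancel]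
      | one => exact one_pow p
      | mul a b ha hb iha ihb =>
        have hc : Commute a b := Subgroup.mem_centralizer_iff.1 (hVC hb) a (hVP ha)
        rw [hc.mul_pow, iha, ihb, one_mul]
      | inv a _ iha => rw [inv_pow, iha, inv_one]
  have hred : IsPReducedNormal p V := by
    refine ⟨inferInstance, hel, inferInstance, ?_⟩
    set CV := Subgroup.centralizer (V : Set G) with hCV
    haveI : (pCore p (G ⧸ CV)).Normal := Cfsg.Lib.Components.pCore_normal' p
    set N := (pCore p (G ⧸ CV)).comap (QuotientGroup.mk' CV)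
    haveI : N.Normal := Subgroup.Normal.comap inferInstance _
    have hmod : PMod p N CV := by
      intro x hx
      obtain ⟨a, ha⟩ := (Cfsg.Lib.Components.isPGroup_pCore (G := G ⧸ CV) p) ⟨_, hx⟩
      exact ⟨a, (QuotientGroup.eq_one_iff _).1 (congrArg Subtype.val ha)⟩
    have hle1 : CV ≤ C := Subgroup.centralizer_le
      (SetLike.coe_subset_coe.mpr (hYX.trans Subgroup.le_normalClosure))
    have hNC : N ≤ C := ((isReduced_iff Y).1 largest_isReduced).2.2 N
      (Subgroup.Normal.isSubnormal inferInstance) fun x hx => (hmod x hx).imp fun a ha => hle1 ha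
    have hNX : N ≤ Subgroup.centralizer (X : Set G) := by
      refine (le_sup_inf_sylow N CV hmod T).trans (sup_le
        (Subgroup.centralizer_le (SetLike.coe_subset_coe.mpr Subgroup.le_normalClosure)) ?_)
      intro t ht
      refine Subgroup.mem_centralizer_iff.2 fun z hz => ?_
      exact (Subgroup.mem_centralizer_iff.1 (omegaZ_le TL hz).2 t
        (Subgroup.mem_inf.2 ⟨ht.1, hNC ht.2⟩)).symm
    rw [eq_bot_iff]
    intro y hy
    obtain ⟨x, rfl⟩ := QuotientGroup.mk'_surjective CV y
    refine (QuotientGroup.eq_one_iff x).2 (Subgroup.mem_centralizer_iff.2 fun v hv => ?_)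
    have hsub : V ≤ Subgroup.centralizer (N : Set G) :=
      Subgroup.normalClosure_le_normal (SetLike.coe_subset_coe.mpr fun z hz =>
        Subgroup.mem_centralizer_iff.2 fun m hm =>
          (Subgroup.mem_centralizer_iff.1 (hNX hm) z hz).symm)
    exact (Subgroup.mem_centralizer_iff.1 (hsub hv) x hy).symm
  exact Subgroup.le_normalClosure.trans (le_largest hred)

theorem largest_eq_omegaZ (T : Sylow p G) :
    largestPReduced p G =
      omegaZ p ((T : Subgroup G) ⊓ Subgroup.centralizer (largestPReduced p G : Set G)) := by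
  refine le_antisymm (fun y hy => ?_) (omegaZ_inf_le hchar T)
  refine Subgroup.subset_closure ⟨Subgroup.mem_inf.2 ⟨Subgroup.mem_inf.2
    ⟨Cfsg.Lib.Coprime.pCore_le_sylow p T (le_pCore' largest_isReduced hy), ?_⟩, ?_⟩,
    largest_isReduced.2.1.2 y hy⟩
  · exact Subgroup.mem_centralizer_iff.2 fun z hz => commute_of_elem largest_isReduced.2.1 hz hy
  · exact Subgroup.mem_centralizer_iff.2 fun t ht =>
      (Subgroup.mem_centralizer_iff.1 ht.2 y hy).symm

omit hchar in
theorem pCore_normalizer_eq (T : Sylow p G) :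
    (pCore p ↥(Subgroup.normalizer
        (((T : Subgroup G) ⊓ Subgroup.centralizer (largestPReduced p G : Set G) : Subgroup G) :
          Set G))).map (Subgroup.normalizer
        (((T : Subgroup G) ⊓ Subgroup.centralizer (largestPReduced p G : Set G) : Subgroup G) :
          Set G)).subtype =
      (T : Subgroup G) ⊓ Subgroup.centralizer (largestPReduced p G : Set G) := by
  haveI := (largest_isReduced (G := G) (p := p)).1
  set C := Subgroup.centralizer (largestPReduced p G : Set G) with hC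
  set TL := (T : Subgroup G) ⊓ C with hTL
  set N := Subgroup.normalizer (TL : Set G) with hN
  have hTN : (T : Subgroup G) ≤ N := by
    intro t ht
    refine Subgroup.mem_normalizer_iff.2 fun x => ⟨fun hx => Subgroup.mem_inf.2
      ⟨mul_mem (mul_mem ht hx.1) (inv_mem ht), (inferInstance : C.Normal).conj_mem x hx.2 t⟩,
      fun hx => Subgroup.mem_inf.2 ⟨?_, ?_⟩⟩
    · have := mul_mem (mul_mem (inv_mem ht) hx.1) ht
      simpa [mul_assoc] using this
    · have := (inferInstance : C.Normal).conj_mem _ hx.2 t⁻¹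
      simpa [mul_assoc] using this
  have hTLN : TL ≤ N := Subgroup.le_normalizer
  refine le_antisymm ?_ ?_
  · set P := (pCore p N).map N.subtype with hP
    have hPT : P ≤ (T : Subgroup G) := by
      rintro _ ⟨x, hx, rfl⟩
      exact Cfsg.Lib.Coprime.pCore_le_sylow p (T.subtype hTN) hx
    haveI : (pCore p N).Normal := Cfsg.Lib.Components.pCore_normal' p
    have hnorm : (P ⊔ C).Normal := by
      refine Subgroup.normalizer_eq_top_iff.1 (eq_top_iff.2 fun g _ => ?_)
      obtain ⟨a, ha, c, hc, rfl⟩ := exists_frattini T C g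
      refine mul_mem ?_ (Subgroup.le_normalizer (Subgroup.mem_sup_right hc))
      have hmap : ∀ b ∈ N, (P ⊔ C).map (MulAut.conj b).toMonoidHom ≤ P ⊔ C := by
        intro b hb
        rw [Subgroup.map_sup]
        refine sup_le_sup ?_ ?_
        · rintro _ ⟨_, ⟨x, hx, rfl⟩, rfl⟩
          exact ⟨_, (inferInstance : (pCore p N).Normal).conj_mem x hx ⟨b, hb⟩, rfl⟩
        · rintro _ ⟨x, hx, rfl⟩
          exact (inferInstance : C.Normal).conj_mem x hx b
      refine Subgroup.mem_normalizer_iff.2 fun x => ⟨fun hx => hmap a ha ⟨x, hx, rfl⟩, fun hx => ?_⟩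
      have := hmap a⁻¹ (inv_mem ha) ⟨_, hx, rfl⟩
      simpa [mul_assoc] using this
    refine le_inf hPT (le_sup_left.trans
      (((isReduced_iff _).1 largest_isReduced).2.2 (P ⊔ C) hnorm.isSubnormal ?_))
    intro x hx
    obtain ⟨y, hy, c, hc, rfl⟩ := Subgroup.mem_sup_of_normal_right.1 hx
    obtain ⟨a, ha⟩ := (T.isPGroup'.to_le hPT) ⟨y, hy⟩
    refine ⟨a, (QuotientGroup.eq_one_iff _).1 ?_⟩
    rw [QuotientGroup.mk_pow, QuotientGroup.mk_mul, (QuotientGroup.eq_one_iff c).2 hc, mul_one,
      ← QuotientGroup.mk_pow, show y ^ p ^ a = 1 from congrArg Subtype.val ha, QuotientGroup.mk_one]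
  · intro x hx
    refine ⟨⟨x, hTLN hx⟩, ?_, rfl⟩
    exact le_sSup (show TL.subgroupOf N ∈ {M : Subgroup N | M.Normal ∧ IsPGroup p M} from
      ⟨Subgroup.normal_in_normalizer, (T.isPGroup'.to_le inf_le_left).comap_of_injective N.subtype
        (Subgroup.subtype_injective N)⟩) hx

end Cfsg.Lib.Reduced
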