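import Mathlib
import Cfsg.Agent.Components.Reduced.Basic
import Cfsg.Agent.Components.PxQ
import Cfsg.Agent.Coprime.Action

/-! `Y_L` for subgroups: transfer between subgroups and subnormal subgroups. -/

set_option linter.style.haveILetI false
set_option linter.unusedSectionVars false

namespace Cfsg.Lib.Reduced

open Cfsg
open scoped Pointwise commutatorElement

variable {G : Type*} [Group G] [Finite G] {p : ℕ} [Fact p.Prime]

theorem isReduced_of_normal (V : Subgroup G) (hV : V.Normal) (hel : IsElementaryAbelian p V)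
    (h : ∀ N : Subgroup G, N.Normal → PMod p N (Subgroup.centralizer (V : Set G)) →
      N ≤ Subgroup.centralizer (V : Set G)) : IsPReducedNormal p V := by
  refine ⟨hV, hel, inferInstance, ?_⟩
  haveI := hV
  set C := Subgroup.centralizer (V : Set G)
  haveI : (pCore p (G ⧸ C)).Normal := Cfsg.Lib.Components.pCore_normal' p
  set N := (pCore p (G ⧸ C)).comap (QuotientGroup.mk' C)
  have hle : N ≤ C := by
    refine h N (Subgroup.Normal.comap inferInstance _) fun x hx => ?_
    obtain ⟨a, ha⟩ := (Cfsg.Lib.Components.isPGroup_pCore (G := G ⧸ C) p) ⟨_, hx⟩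
    exact ⟨a, (QuotientGroup.eq_one_iff _).1 (congrArg Subtype.val ha)⟩
  rw [eq_bot_iff]
  intro y hy
  obtain ⟨x, rfl⟩ := QuotientGroup.mk'_surjective C y
  exact (QuotientGroup.eq_one_iff x).2 (hle hy)

/-- A `p`-power of every element has order prime to `p`. -/
theorem exists_coprime_pow (x : G) : ∃ m : ℕ, ∀ e : ℕ, m ≤ e → (orderOf (x ^ p ^ e)).Coprime p := by
  obtain ⟨m, n, hn, hmn⟩ := Nat.exists_eq_pow_mul_and_not_dvd
    (orderOf_pos x).ne' p (Fact.out : p.Prime).ne_one
  refine ⟨m, fun e he => ?_⟩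
  have hm : orderOf (x ^ p ^ m) = n := by
    rw [orderOf_pow_of_dvd (pow_ne_zero _ (Fact.out : p.Prime).ne_zero) (hmn ▸ dvd_mul_right _ _),
      hmn, Nat.mul_div_cancel_left _ (pow_pos (Fact.out : p.Prime).pos m)]
  obtain ⟨d, rfl⟩ := Nat.exists_eq_add_of_le he
  rw [pow_add, pow_mul]
  refine Nat.Coprime.coprime_dvd_left (orderOf_pow_dvd _) ?_
  rw [hm]
  exact ((Fact.out : p.Prime).coprime_iff_not_dvd.2 hn).symm

theorem pow_mem_of_le {C : Subgroup G} {x : G} {a e : ℕ} (h : x ^ p ^ a ∈ C) (he : a ≤ e) :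
    x ^ p ^ e ∈ C := by
  obtain ⟨d, rfl⟩ := Nat.exists_eq_add_of_le he
  rw [pow_add, pow_mul]
  exact pow_mem h _

/-- For `K` subnormal, commutators with elements of order prime to `p` land in `K`. -/
theorem commutator_mem_subnormal {V : Subgroup G} [V.Normal] (hV : IsPGroup p V) {K : Subgroup G}
    (hK : K.IsSubnormal) :
    ∀ x ∈ K, (orderOf x).Coprime p → ∀ v ∈ V, ⁅v, x⁆ ∈ K := by
  induction hK with
  | top => exact fun x _ _ v _ => trivial
  | step H K' hHK _ hn ih =>
    intro x hx hcop v hv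
    set A := Subgroup.zpowers x
    have hAV : A ≤ Subgroup.normalizer (V : Set G) := by
      rw [Subgroup.normalizer_eq_top]; exact le_top
    have hc : (Nat.card A).Coprime (Nat.card V) := by
      obtain ⟨k, hk⟩ := IsPGroup.iff_card.1 hV
      rw [hk, Nat.card_zpowers]
      exact hcop.pow_right k
    have hsol : Group.IsSolvable A ∨ Group.IsSolvable V :=
      Or.inl (inferInstance)
    have hmem : ⁅v, x⁆ ∈ ⁅⁅V, A⁆, A⁆ := by
      rw [Cfsg.Lib.Coprime.commutator_commutator_eq hAV hc hsol]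
      exact Subgroup.commutator_mem_commutator hv (Subgroup.mem_zpowers x)
    have hVA : ⁅V, A⁆ ≤ K' := by
      rw [Subgroup.commutator_le]
      intro w hw a ha
      obtain ⟨i, rfl⟩ := ha
      refine ih (x ^ i) (K'.zpow_mem (hHK hx) i) ?_ w hw
      exact Nat.Coprime.coprime_dvd_left (orderOf_dvd_of_mem_zpowers ⟨i, rfl⟩) hcop
    refine (Subgroup.commutator_le.2 ?_ : ⁅⁅V, A⁆, A⁆ ≤ H) hmem
    intro u hu a ha
    have haH : a ∈ H := Subgroup.zpowers_le.2 hx ha
    have h1 := hn.conj_mem ⟨a, hHK haH⟩ haH ⟨u, hVA hu⟩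
    rw [commutatorElement_def]
    exact mul_mem h1 (inv_mem haH)

theorem commutator_residual_le {V : Subgroup G} [V.Normal] (hV : IsPGroup p V) {K : Subgroup G}
    (hK : K.IsSubnormal) : ⁅V, (pResidual p K).map K.subtype⁆ ≤ K := by
  rw [Subgroup.commutator_le]
  rintro v hv _ ⟨g, hg, rfl⟩
  revert v
  induction hg using Subgroup.closure_induction with
  | mem y hy =>
    intro v hv
    exact commutator_mem_subnormal hV hK y y.2 (by rwa [Subgroup.orderOf_coe]) v hv
  | one => intro v _; simp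
  | mul a b _ _ ha hb =>
    intro v hv
    have e : ⁅v, K.subtype (a * b)⁆ = ⁅v, (a : G)⁆ * ((a : G) * ⁅v, (b : G)⁆ * (a : G)⁻¹) := by
      simp [commutatorElement_def, mul_assoc]
    rw [e]
    exact mul_mem (ha v hv) (mul_mem (mul_mem a.2 (hb v hv)) (inv_mem a.2))
  | inv a _ ha =>
    intro v hv
    have e : ⁅v, K.subtype a⁻¹⁆ = (a : G)⁻¹ * ⁅v, (a : G)⁆⁻¹ * (a : G) := by
      simp [commutatorElement_def, mul_assoc]
    rw [e]
    exact mul_mem (mul_mem (inv_mem a.2) (inv_mem (ha v hv))) a.2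

/-- An element of `p'`-order centralising the commutators with `V` centralises `V`. -/
theorem centralizes_of_fixed_commutators {V : Subgroup G} [V.Normal] (hV : IsPGroup p V) {x : G}
    (hcop : (orderOf x).Coprime p) (hfix : ∀ v ∈ V, Commute x ⁅x, v⁆) :
    x ∈ Subgroup.centralizer (V : Set G) := by
  refine Subgroup.mem_centralizer_iff.2 fun v hv => ?_
  refine (Cfsg.Lib.Components.centralize_of_commutator_fixed hV hcop
    (by rw [Subgroup.normalizer_eq_top]; trivial) hv ?_).symm
  rw [(hfix v hv).eq, mul_inv_cancel_right]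

/-- Reducedness passes to a subnormal subgroup through any subgroup containing the commutators. -/
theorem le_centralizer_of_subnormal {V : Subgroup G} (hV : IsPReducedNormal p V) {K : Subgroup G}
    (W N : Subgroup G) (hN : N.IsSubnormal) (hNK : N ≤ K)
    (hW : ⁅V, (pResidual p K).map K.subtype⁆ ≤ W)
    (hmod : PMod p N (Subgroup.centralizer (W : Set G))) :
    N ≤ Subgroup.centralizer (V : Set G) := by
  haveI := hV.1
  refine ((isReduced_iff V).1 hV).2.2 N hN fun x hx => ?_
  obtain ⟨a, ha⟩ := hmod x hx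
  obtain ⟨m, hm⟩ := exists_coprime_pow (p := p) x
  refine ⟨max a m, ?_⟩
  set y := x ^ p ^ max a m with hy
  have hcop : (orderOf y).Coprime p := hm _ (le_max_right a m)
  have hyW : y ∈ Subgroup.centralizer (W : Set G) := pow_mem_of_le ha (le_max_left a m)
  refine centralizes_of_fixed_commutators (isPGroup_of_elem hV.2.1) hcop fun v hv => ?_
  have hyK : y ∈ K := pow_mem (hNK hx) _
  have hres : y ∈ (pResidual p K).map K.subtype :=
    ⟨⟨y, hyK⟩, Subgroup.subset_closure
      (show (orderOf (⟨y, hyK⟩ : K)).Coprime p by rwa [← Subgroup.orderOf_coe]), rfl⟩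
  have hmem : ⁅y, v⁆ ∈ W := by
    refine hW ?_
    rw [Subgroup.commutator_comm]
    exact Subgroup.commutator_mem_commutator hres hv
  exact (Subgroup.mem_centralizer_iff.1 hyW _ hmem).symm

theorem subgroupOf_centralizer {K V : Subgroup G} (h : V ≤ K) {x : K} :
    x ∈ Subgroup.centralizer ((V.subgroupOf K : Subgroup K) : Set K) ↔
      (x : G) ∈ Subgroup.centralizer (V : Set G) := by
  simp only [Subgroup.mem_centralizer_iff]
  constructor
  · exact fun hx v hv => congrArg Subtype.val (hx ⟨v, h hv⟩ hv)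
  · exact fun hx v hv => Subtype.ext (hx v hv)

theorem isElem_subgroupOf {K V : Subgroup G} (hel : IsElementaryAbelian p V) :
    IsElementaryAbelian p (V.subgroupOf K) :=
  ⟨⟨⟨fun a b => Subtype.ext (Subtype.ext (commute_of_elem hel a.2 b.2))⟩⟩,
    fun x hx => Subtype.ext (hel.2 x hx)⟩

theorem isReduced_subnormal_part {V : Subgroup G} (hV : IsPReducedNormal p V) {K : Subgroup G}
    (hK : K.IsSubnormal) (W : Subgroup G) (hWV : W ≤ V) (hWK : W ≤ K)
    (hWn : K ≤ Subgroup.normalizer (W : Set G))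
    (hW : ⁅V, (pResidual p K).map K.subtype⁆ ≤ W) :
    IsPReducedNormal p (W.subgroupOf K) := by
  refine isReduced_of_normal _ (Subgroup.normal_subgroupOf_of_le_normalizer hWn)
    (isElem_subgroupOf (isElem_of_le hV.2.1 hWV)) fun N hN hmod => ?_
  intro x hx
  rw [subgroupOf_centralizer hWK]
  refine Subgroup.centralizer_le (SetLike.coe_subset_coe.mpr hWV)
    (le_centralizer_of_subnormal hV W (N.map K.subtype)
      (Subgroup.IsSubnormal.trans' hN.isSubnormal hK) (Subgroup.map_subtype_le _) hW ?_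
      ⟨x, hx, rfl⟩)
  rintro _ ⟨y, hy, rfl⟩
  obtain ⟨a, ha⟩ := hmod y hy
  exact ⟨a, (subgroupOf_centralizer hWK).1 ha⟩

theorem isReduced_map_equiv {G' : Type*} [Group G'] [Finite G'] (e : G ≃* G') {V : Subgroup G}
    (h : IsPReducedNormal p V) : IsPReducedNormal p (V.map e.toMonoidHom) := by
  rw [isReduced_iff] at h ⊢
  obtain ⟨hn, hel, hred⟩ := h
  have hiff : ∀ x : G, e x ∈ Subgroup.centralizer ((V.map e.toMonoidHom : Subgroup G') : Set G') ↔
      x ∈ Subgroup.centralizer (V : Set G) := by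
    intro x
    simp only [Subgroup.mem_centralizer_iff]
    constructor
    · intro hx v hv
      refine e.injective ?_
      simpa using hx (e v) ⟨v, hv, rfl⟩
    · rintro hx _ ⟨v, hv, rfl⟩
      show e v * e x = e x * e v
      rw [← map_mul, hx v hv, map_mul]
  refine ⟨hn.map _ e.surjective, ⟨⟨⟨fun a b => ?_⟩⟩, ?_⟩, fun N hN hmod => ?_⟩
  · obtain ⟨_, a', ha, rfl⟩ := a
    obtain ⟨_, b', hb, rfl⟩ := b
    refine Subtype.ext ?_
    show e a' * e b' = e b' * e a'
    rw [← map_mul, commute_of_elem hel ha hb, map_mul]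
  · rintro _ ⟨v, hv, rfl⟩
    rw [← map_pow, hel.2 v hv, map_one]
  · intro y hy
    obtain ⟨x, rfl⟩ := e.surjective y
    rw [hiff]
    refine hred (N.comap e.toMonoidHom) (hN.comap _) (fun z hz => ?_) hy
    obtain ⟨a, ha⟩ := hmod (e z) hz
    exact ⟨a, (hiff _).1 (by rwa [map_pow])⟩

theorem largest_map_equiv {G' : Type*} [Group G'] [Finite G'] (e : G ≃* G') :
    (largestPReduced p G).map e.toMonoidHom = largestPReduced p G' := by
  refine le_antisymm (le_largest (isReduced_map_equiv e largest_isReduced)) ?_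
  have h := le_largest (isReduced_map_equiv e.symm (largest_isReduced (G := G') (p := p)))
  intro y hy
  exact ⟨e.symm y, h ⟨y, hy, rfl⟩, e.apply_symm_apply y⟩

/-! Y_L as a subgroup of the ambient group -/

theorem largestOf_le (L : Subgroup G) : largestPReducedOf p L ≤ L := Subgroup.map_subtype_le _

theorem largestOf_elem (L : Subgroup G) : IsElementaryAbelian p (largestPReducedOf p L) := by
  have h := (largest_isReduced (G := L) (p := p)).2.1
  refine ⟨⟨⟨fun a b => ?_⟩⟩, ?_⟩
  · obtain ⟨_, a', ha, rfl⟩ := a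
    obtain ⟨_, b', hb, rfl⟩ := b
    exact Subtype.ext (show (a' : G) * b' = b' * a' from
      congrArg Subtype.val (commute_of_elem h ha hb))
  · rintro _ ⟨x, hx, rfl⟩
    rw [← map_pow, h.2 x hx, map_one]

theorem mem_largestOf {L : Subgroup G} {x : L} :
    (x : G) ∈ largestPReducedOf p L ↔ x ∈ largestPReduced p L :=
  Subgroup.mem_map_iff_mem (Subgroup.subtype_injective L)

theorem le_largestOf {L V : Subgroup G} (hV : V ≤ L) (h : IsPReducedNormal p (V.subgroupOf L)) :
    V ≤ largestPReducedOf p L := fun v hv =>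
  ⟨⟨v, hV hv⟩, le_largest h hv, rfl⟩

theorem normalizer_largestOf (L : Subgroup G) :
    L ≤ Subgroup.normalizer (largestPReducedOf p L : Set G) := by
  haveI := (largest_isReduced (G := L) (p := p)).1
  intro g hg
  refine Subgroup.mem_normalizer_iff.2 fun x => ⟨fun hx => ?_, fun hx => ?_⟩
  · obtain ⟨y, hy, rfl⟩ := hx
    exact ⟨_, (inferInstance : (largestPReduced p L).Normal).conj_mem y hy ⟨g, hg⟩, rfl⟩
  · obtain ⟨y, hy, hyx⟩ := hx
    refine ⟨(⟨g, hg⟩ : L)⁻¹ * y * ⟨g, hg⟩, ?_, ?_⟩
    · have := (inferInstance : (largestPReduced p L).Normal).conj_mem y hy (⟨g, hg⟩ : L)⁻¹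
      simpa using this
    · show g⁻¹ * (y : G) * g = x
      rw [show (y : G) = g * x * g⁻¹ from hyx]
      simp [mul_assoc]

theorem normalizer_centralizer {L V : Subgroup G} (h : L ≤ Subgroup.normalizer (V : Set G)) :
    L ≤ Subgroup.normalizer (Subgroup.centralizer (V : Set G) : Set G) := by
  intro t ht
  have hq := h ht
  refine Subgroup.mem_normalizer_iff.2 fun z => ⟨fun hz => ?_, fun hz => ?_⟩
  · refine Subgroup.mem_centralizer_iff.2 fun y hy => ?_
    have h1 := Subgroup.mem_centralizer_iff.1 hz _ ((Subgroup.mem_normalizer_iff''.1 hq y).1 hy)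
    have h2 := congrArg (fun u => t * u * t⁻¹) h1
    simpa [mul_assoc] using h2
  · refine Subgroup.mem_centralizer_iff.2 fun y hy => ?_
    have h1 := Subgroup.mem_centralizer_iff.1 hz _ ((Subgroup.mem_normalizer_iff.1 hq y).1 hy)
    have h2 := congrArg (fun u => t⁻¹ * u * t) h1
    simpa [mul_assoc] using h2

theorem largestOf_le_pCoreOf (L : Subgroup G) : largestPReducedOf p L ≤ pCoreOf p L :=
  Subgroup.map_mono (le_pCore' largest_isReduced)

theorem pCoreOf_le_centralizer (L : Subgroup G) :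
    pCoreOf p L ≤ Subgroup.centralizer (largestPReducedOf p L : Set G) := by
  rintro _ ⟨x, hx, rfl⟩
  refine Subgroup.mem_centralizer_iff.2 ?_
  rintro _ ⟨y, hy, rfl⟩
  exact congrArg Subtype.val
    (Subgroup.mem_centralizer_iff.1 (pCore_le_centralizer largest_isReduced hx) y hy)

theorem pCoreOf_le_sylow {L : Subgroup G} (T : Sylow p G) (hTL : (T : Subgroup G) ≤ L) :
    pCoreOf p L ≤ (T : Subgroup G) := by
  rintro _ ⟨x, hx, rfl⟩
  exact Cfsg.Lib.Coprime.pCore_le_sylow p (T.subtype hTL) hx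

/-- Transfer of reducedness between two supplements of a centralizer. -/
theorem largest_transfer (T : Sylow p G) (L M : Subgroup G) (hTL : (T : Subgroup G) ≤ L)
    (hTM : (T : Subgroup G) ≤ M)
    (heq : L ⊔ Subgroup.centralizer (largestPReducedOf p M : Set G) =
      M ⊔ Subgroup.centralizer (largestPReducedOf p M : Set G)) :
    largestPReducedOf p M ≤ largestPReducedOf p L := by
  set Y := largestPReducedOf p M with hY
  set C := Subgroup.centralizer (Y : Set G) with hC
  have hYL : Y ≤ L := ((largestOf_le_pCoreOf M).trans (pCoreOf_le_sylow T hTM)).trans hTL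
  have hYM : Y ≤ M := largestOf_le M
  have hMY : M ≤ Subgroup.normalizer (Y : Set G) := normalizer_largestOf M
  have hK : M ⊔ C ≤ Subgroup.normalizer (Y : Set G) :=
    sup_le hMY (Subgroup.centralizer_le_normalizer _)
  have hLY : L ≤ Subgroup.normalizer (Y : Set G) := (le_sup_left.trans heq.le).trans hK
  refine le_largestOf hYL (isReduced_of_normal _
    (Subgroup.normal_subgroupOf_of_le_normalizer hLY) (isElem_subgroupOf (largestOf_elem M))
    fun N hN hmod => ?_)
  set N' : Subgroup G := N.map L.subtype with hN'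
  have hN'L : N' ≤ L := Subgroup.map_subtype_le _
  have hLC := normalizer_centralizer hLY
  set P := N' ⊔ C with hP
  have hPn : M ≤ Subgroup.normalizer (P : Set G) := by
    refine (le_sup_left.trans heq.ge).trans (sup_le ?_ (le_sup_right.trans Subgroup.le_normalizer))
    intro l hl
    have hmap : ∀ g ∈ L, P.map (MulAut.conj g).toMonoidHom ≤ P := by
      intro g hg
      rw [hP, Subgroup.map_sup]
      refine sup_le_sup ?_ ?_
      · rintro _ ⟨_, ⟨y, hy, rfl⟩, rfl⟩
        exact ⟨_, hN.conj_mem y hy ⟨g, hg⟩, rfl⟩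
      · rintro _ ⟨y, hy, rfl⟩
        exact (Subgroup.mem_normalizer_iff.1 (hLC hg) y).1 hy
    refine Subgroup.mem_normalizer_iff.2 fun x => ⟨fun hx => hmap l hl ⟨x, hx, rfl⟩, fun hx => ?_⟩
    have := hmap l⁻¹ (inv_mem hl) ⟨_, hx, rfl⟩
    simpa [mul_assoc] using this
  have hPC : ∀ y ∈ P, ∃ n ∈ N', ∃ c ∈ C, y = n * c := by
    intro y hy
    have h1 : y ∈ (N' : Set G) * (C : Set G) := by
      rw [← Subgroup.coe_mul_of_left_le_normalizer_right N' C (hN'L.trans hLC)]
      exact hy
    obtain ⟨n, hn, c, hc, hnc⟩ := Set.mem_mul.1 h1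
    exact ⟨n, hn, c, hc, hnc.symm⟩
  have hpowmem : ∀ n ∈ N', ∀ c ∈ C, ∀ k : ℕ, (n ^ k)⁻¹ * (n * c) ^ k ∈ C := by
    intro n hn c hc k
    induction k with
    | zero => simp
    | succ k ih =>
      have h1 := (Subgroup.mem_normalizer_iff''.1 (hLC (hN'L hn)) _).1 ih
      have h2 := mul_mem h1 hc
      simpa [pow_succ, mul_assoc] using h2
  have key : (P ⊓ M).subgroupOf M ≤
      Subgroup.centralizer ((Y.subgroupOf M : Subgroup M) : Set M) := by
    have hYeq : Y.subgroupOf M = largestPReduced p M := by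
      ext x
      exact mem_largestOf
    rw [hYeq]
    refine ((isReduced_iff _).1 largest_isReduced).2.2 _
      (Subgroup.normal_subgroupOf_of_le_normalizer
        ((le_inf hPn Subgroup.le_normalizer).trans (by
          intro g hg
          refine Subgroup.mem_normalizer_iff.2 fun x => ?_
          rw [Subgroup.mem_inf, Subgroup.mem_inf, Subgroup.mem_normalizer_iff.1 hg.1 x,
            Subgroup.mem_normalizer_iff.1 hg.2 x]))).isSubnormal ?_
    intro y hy
    obtain ⟨n, hn, c, hc, hync⟩ := hPC (y : G) hy.1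
    obtain ⟨⟨n', hn'L⟩, hn'N, rfl⟩ := hn
    obtain ⟨a, ha⟩ := hmod ⟨n', hn'L⟩ hn'N
    refine ⟨a, ?_⟩
    rw [← hYeq, subgroupOf_centralizer hYM]
    rw [subgroupOf_centralizer hYL] at ha
    have := mul_mem ha (hpowmem n' ⟨⟨n', hn'L⟩, hn'N, rfl⟩ c hc (p ^ a))
    simp only [SubgroupClass.coe_pow] at this ⊢
    rw [mul_inv_cancel_left] at this
    rw [hync]
    exact this
  intro x hx
  rw [subgroupOf_centralizer hYL]
  have hxP : (x : G) ∈ P := Subgroup.mem_sup_left ⟨x, hx, rfl⟩
  have hxK : (x : G) ∈ ((M ⊔ C : Subgroup G) : Set G) := heq ▸ Subgroup.mem_sup_left x.2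
  rw [Subgroup.coe_mul_of_left_le_normalizer_right M C (normalizer_centralizer hMY)] at hxK
  obtain ⟨m, hm, c, hc, hmc⟩ := Set.mem_mul.1 hxK
  have hmP : m ∈ P := by
    have := mul_mem hxP (inv_mem (Subgroup.mem_sup_right (S := N') hc))
    rwa [← hmc, mul_inv_cancel_right] at this
  have h1 := key (x := ⟨m, hm⟩) ⟨hmP, hm⟩
  rw [subgroupOf_centralizer hYM] at h1
  rw [← hmc]
  exact mul_mem h1 hc

/-- The normal case of `C_L(Y_G) ≤ C(Y_L)`. -/
theorem centralizer_largest_normal (L : Subgroup G) [L.Normal] :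
    L ⊓ Subgroup.centralizer (largestPReduced p G : Set G) ≤
      Subgroup.centralizer (largestPReducedOf p L : Set G) := by
  suffices key : ∀ n, ∀ V : Subgroup G, Nat.card V = n → V.Normal → IsElementaryAbelian p V →
      (∀ N : Subgroup G, N ≤ L → L ≤ Subgroup.normalizer (N : Set G) →
        PMod p N (Subgroup.centralizer (V : Set G)) → N ≤ Subgroup.centralizer (V : Set G)) →
      L ⊓ Subgroup.centralizer (largestPReduced p G : Set G) ≤ Subgroup.centralizer (V : Set G) by
    refine key _ _ rfl ?_ (largestOf_elem L) ?_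
    · refine ⟨fun x hx g => ?_⟩
      obtain ⟨y, hy, rfl⟩ := hx
      refine ⟨(MulAut.conjNormal g : MulAut L) y, ?_, rfl⟩
      exact (largest_map_equiv (G := L) (p := p) (MulAut.conjNormal g : MulAut L)).le ⟨y, hy, rfl⟩
    · intro N hNL hLN hmod
      have hY := (isReduced_iff _).1 (largest_isReduced (G := L) (p := p))
      intro x hx
      have h1 := hY.2.2 (N.subgroupOf L)
        (Subgroup.normal_subgroupOf_of_le_normalizer hLN).isSubnormal (fun y hy => by
          obtain ⟨a, ha⟩ := hmod y hy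
          refine ⟨a, Subgroup.mem_centralizer_iff.2 fun z hz => Subtype.ext ?_⟩
          exact Subgroup.mem_centralizer_iff.1 ha z ⟨z, hz, rfl⟩) (x := ⟨x, hNL hx⟩) hx
      refine Subgroup.mem_centralizer_iff.2 ?_
      rintro _ ⟨z, hz, rfl⟩
      exact congrArg Subtype.val (Subgroup.mem_centralizer_iff.1 h1 z hz)
  intro n
  induction n using Nat.strong_induction_on with
  | _ n ih =>
  intro V hcard hVn hel hred
  by_cases hV : IsPReducedNormal p V
  · exact inf_le_right.trans (Subgroup.centralizer_le (SetLike.coe_subset_coe.mpr (le_largest hV)))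
  have hVp := isPGroup_of_elem hel
  set C := Subgroup.centralizer (V : Set G) with hC
  obtain ⟨P, hPn, hPmod, hPC⟩ : ∃ P : Subgroup G, P.Normal ∧ PMod p P C ∧ ¬ P ≤ C := by
    by_contra hc
    push Not at hc
    exact hV (isReduced_of_normal V hVn hel fun N hN hmod => hc N hN hmod)
  haveI := hPn
  set V1 : Subgroup G := V ⊓ Subgroup.centralizer (P : Set G) with hV1
  obtain ⟨T⟩ : Nonempty (Sylow p G) := inferInstance
  have hPle := le_sup_inf_sylow P C hPmod T
  have hlt : V1 < V := by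
    refine lt_of_le_of_ne inf_le_left fun he => hPC ?_
    rw [hC]
    exact fun y hy => Subgroup.mem_centralizer_iff.2 fun v hv =>
      (Subgroup.mem_centralizer_iff.1 (inf_eq_left.1 he hv) y hy).symm
  -- elements of `p'`-order of `L` centralising `V1` centralise `V`
  have hcp : ∀ x ∈ L, (orderOf x).Coprime p → x ∈ Subgroup.centralizer (V1 : Set G) → x ∈ C := by
    intro x hxL hcop hx1
    have hPL : ∀ y ∈ P, y⁻¹ * x⁻¹ * y * x ∈ C := by
      intro y hy
      have hLP : P ⊓ L ≤ C := by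
        refine hred (P ⊓ L) inf_le_right ?_ fun z hz => hPmod z hz.1
        rw [Subgroup.normalizer_eq_top]; exact le_top
      refine hLP (Subgroup.mem_inf.2 ⟨?_, ?_⟩)
      · have h1 := hPn.conj_mem y hy x⁻¹
        have := mul_mem (inv_mem hy) h1
        simpa [mul_assoc] using this
      · have h1 := (inferInstance : L.Normal).conj_mem _ (inv_mem hxL) y⁻¹
        have := mul_mem h1 hxL
        simpa [mul_assoc] using this
    let U : Subgroup G :=
      { carrier := {u | ∃ v ∈ V, ⁅x, v⁆ = u}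
        one_mem' := ⟨1, one_mem _, by simp⟩
        mul_mem' := by
          rintro _ _ ⟨v, hv, rfl⟩ ⟨w, hw, rfl⟩
          refine ⟨v * w, mul_mem hv hw, ?_⟩
          have h1 : ⁅x, w⁆ ∈ V := by
            rw [commutatorElement_def]; exact mul_mem (hVn.conj_mem w hw x) (inv_mem hw)
          have e : ⁅x, v * w⁆ = ⁅x, v⁆ * (v * ⁅x, w⁆ * v⁻¹) := by
            simp [commutatorElement_def, mul_assoc]
          rw [e, commute_of_elem hel hv h1, mul_inv_cancel_right]
        inv_mem' := by
          rintro _ ⟨v, hv, rfl⟩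
          refine ⟨v⁻¹, inv_mem hv, ?_⟩
          have h1 : ⁅x, v⁻¹⁆ ∈ V := by
            rw [commutatorElement_def]
            exact mul_mem (hVn.conj_mem _ (inv_mem hv) x) (inv_mem (inv_mem hv))
          have e : ⁅x, v⁆ * (v * ⁅x, v⁻¹⁆ * v⁻¹) = 1 := by
            simp [commutatorElement_def, mul_assoc]
          rw [commute_of_elem hel hv h1, mul_inv_cancel_right] at e
          exact (inv_eq_of_mul_eq_one_right e).symm }
    have hUV : U ≤ V := by
      rintro _ ⟨v, hv, rfl⟩
      rw [commutatorElement_def]; exact mul_mem (hVn.conj_mem v hv x) (inv_mem hv)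
    have hPU : ∀ y ∈ P, ∀ u ∈ U, y * u * y⁻¹ ∈ U := by
      rintro y hy _ ⟨v, hv, rfl⟩
      refine ⟨y * v * y⁻¹, hVn.conj_mem v hv y, ?_⟩
      have hc := Subgroup.mem_centralizer_iff.1 (hPL y hy) (x⁻¹ * (x * v * x⁻¹) * x) (by
        have := hVn.conj_mem _ (hVn.conj_mem v hv x) x⁻¹
        simpa using this)
      have hc' : v * (y⁻¹ * x⁻¹ * y * x) = (y⁻¹ * x⁻¹ * y * x) * v := by
        simpa [mul_assoc] using hc
      have e : x * (y * v * y⁻¹) * x⁻¹ = y * (x * v * x⁻¹) * y⁻¹ := by
        calc x * (y * v * y⁻¹) * x⁻¹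
            = x * y * (v * (y⁻¹ * x⁻¹ * y * x)) * (x⁻¹ * y⁻¹) := by simp [mul_assoc]
          _ = x * y * (y⁻¹ * x⁻¹ * y * x * v) * (x⁻¹ * y⁻¹) := by rw [hc']
          _ = y * (x * v * x⁻¹) * y⁻¹ := by simp [mul_assoc]
      rw [commutatorElement_def, commutatorElement_def, e]
      simp [mul_assoc]
    refine centralizes_of_fixed_commutators hVp hcop fun v hv => ?_
    -- otherwise a fixed point of `P` in `U` gives a contradiction
    by_contra hne
    set S : Subgroup G := (T : Subgroup G) ⊓ P with hS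
    have hUne : U ≠ ⊥ := by
      intro hb
      apply hne
      have : ⁅x, v⁆ ∈ U := ⟨v, hv, rfl⟩
      rw [hb, Subgroup.mem_bot] at this
      rw [this]; exact Commute.one_right x
    have hSU : S ≤ Subgroup.normalizer (U : Set G) := fun s hs =>
      Subgroup.mem_normalizer_iff.2 fun u => ⟨hPU s hs.2 u, fun hu => by
        have := hPU s⁻¹ (inv_mem hs.2) _ hu
        simpa [mul_assoc] using this⟩
    obtain ⟨U', ⟨hU'ne, hU'le, hSU'⟩, hmin⟩ := exists_minimal_of_wellFoundedLT
      (fun U' : Subgroup G => U' ≠ ⊥ ∧ U' ≤ U ∧ S ≤ Subgroup.normalizer (U' : Set G))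
      ⟨U, hUne, le_rfl, hSU⟩
    have hlt' := Cfsg.Lib.Components.commutator_pGroup_lt (hVp.to_le (hU'le.trans hUV))
      (T.isPGroup'.to_le inf_le_left) hSU' hU'ne
    have hbot : ⁅U', S⁆ = ⊥ := by
      by_contra hb
      refine not_le_of_gt hlt' (hmin ⟨hb, hlt'.le.trans hU'le, ?_⟩ hlt'.le)
      exact Cfsg.Lib.Coprime.le_normalizer_commutator_right _ _
    obtain ⟨u, hu, hu1⟩ := (Subgroup.bot_or_exists_ne_one U').resolve_left hU'ne
    obtain ⟨w, hw, hwu⟩ := hU'le hu
    have huP : u ∈ Subgroup.centralizer (P : Set G) := by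
      refine Subgroup.mem_centralizer_iff.2 fun y hy => ?_
      obtain ⟨c, hc, s, hs, rfl⟩ := Subgroup.mem_sup_of_normal_left.1 (hPle hy)
      have h2 : s * u = u * s :=
        (Subgroup.mem_centralizer_iff.1 (Subgroup.commutator_eq_bot_iff_le_centralizer.1 hbot hu) s hs)
      have h3 : u * c = c * u := Subgroup.mem_centralizer_iff.1 hc u (hUV (hU'le hu))
      rw [mul_assoc, h2, ← mul_assoc, ← h3, mul_assoc]
    have hxu : Commute x u :=
      (Subgroup.mem_centralizer_iff.1 hx1 u (Subgroup.mem_inf.2 ⟨hUV (hU'le hu), huP⟩)).symm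
    apply hu1
    have hxw : x * w = w * x := Cfsg.Lib.Components.centralize_of_commutator_fixed hVp hcop
      (by rw [Subgroup.normalizer_eq_top]; trivial) hw (by rw [hwu, hxu.eq, mul_inv_cancel_right])
    rw [← hwu, commutatorElement_eq_one_iff_mul_comm.2 hxw]
  haveI hV1n : V1.Normal := inferInstance
  have hred1 : ∀ N : Subgroup G, N ≤ L → L ≤ Subgroup.normalizer (N : Set G) →
      PMod p N (Subgroup.centralizer (V1 : Set G)) → N ≤ C := by
    intro N hNL hLN hmod
    refine hred N hNL hLN fun y hy => ?_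
    obtain ⟨a, ha⟩ := hmod y hy
    obtain ⟨m, hm⟩ := exists_coprime_pow (p := p) y
    exact ⟨max a m, hcp _ (pow_mem (hNL hy) _) (hm _ (le_max_right a m))
      (pow_mem_of_le ha (le_max_left a m))⟩
  have hCV1 : C ≤ Subgroup.centralizer (V1 : Set G) :=
    Subgroup.centralizer_le (SetLike.coe_subset_coe.mpr inf_le_left)
  have h1 := ih _ (hcard ▸ lt_of_le_of_ne (Subgroup.card_le_of_le hlt.le) (fun he =>
      hlt.ne (Subgroup.eq_of_le_of_card_ge hlt.le he.ge))) V1 rfl hV1n
    (isElem_of_le hel inf_le_left) fun N h1 h2 h3 => (hred1 N h1 h2 h3).trans hCV1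
  refine le_trans (le_inf inf_le_left h1) (hred1 _ inf_le_left ?_ ?_)
  · rw [Subgroup.normalizer_eq_top]; exact le_top
  · intro y hy
    exact ⟨0, by simpa using hy.2⟩

theorem centralizer_largestOf {L : Subgroup G} (hL : L.IsSubnormal) :
    L ⊓ Subgroup.centralizer (largestPReduced p G : Set G) ≤
      Subgroup.centralizer (largestPReducedOf p L : Set G) := by
  induction hL with
  | top => exact centralizer_largest_normal ⊤
  | step H K hHK hK hn ih =>
    intro x hx
    haveI := hn
    have h1 := ih (Subgroup.mem_inf.2 ⟨hHK hx.1, hx.2⟩)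
    have h2 := centralizer_largest_normal (p := p) (H.subgroupOf K) (x := ⟨x, hHK hx.1⟩)
      (Subgroup.mem_inf.2 ⟨hx.1, Subgroup.mem_centralizer_iff.2 fun y hy => Subtype.ext
        (Subgroup.mem_centralizer_iff.1 h1 y ⟨y, hy, rfl⟩)⟩)
    refine Subgroup.mem_centralizer_iff.2 ?_
    rintro _ ⟨y, hy, rfl⟩
    have hy' : (Subgroup.subgroupOfEquivOfLe hHK).symm y ∈ largestPReduced p (H.subgroupOf K) :=
      (largest_map_equiv (p := p) (Subgroup.subgroupOfEquivOfLe hHK).symm).le ⟨y, hy, rfl⟩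
    exact congrArg Subtype.val (Subgroup.mem_centralizer_iff.1 h2 _ ⟨_, hy', rfl⟩)

/-- `Z_G = Ω₁(Z(G)) [Z_G, O^p(G)]`. -/
theorem zClosure_decomp
    (hchar : Subgroup.centralizer (pCore p G : Set G) ≤ pCore p G) (T : Sylow p G) :
    zClosure p G = omegaZ p (⊤ : Subgroup G) ⊔ ⁅zClosure p G, pResidual p G⁆ ∧
      ⁅zClosure p G, (⊤ : Subgroup G)⁆ = ⁅zClosure p G, pResidual p G⁆ := by
  classical
  set Z := zClosure p G with hZ
  set K := pResidual p G with hK
  set D := ⁅Z, K⁆ with hD
  haveI hZn : Z.Normal := zClosure_normal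
  haveI : K.Normal := Cfsg.Lib.Transfer.pResidual_normal'
  haveI hDn : D.Normal := inferInstance
  have hDZ : D ≤ Z := Subgroup.commutator_le_left _ _
  have hZel : IsElementaryAbelian p Z := isElem_of_le (isElem_omegaZ _) (zClosure_le hchar)
  set Ω := omegaZ p (T : Subgroup G) with hΩ
  have hΩZ : Ω ≤ Z := le_iSup (fun S : Sylow p G => omegaZ p (S : Subgroup G)) T
  have hmul : ∀ g : G, ∃ t ∈ (T : Subgroup G), ∃ k ∈ K, k * t = g := by
    intro g
    have hg : g ∈ K ⊔ (T : Subgroup G) := by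
      rw [Cfsg.Lib.Transfer.pResidual_sup_sylow T]; trivial
    obtain ⟨k, hk, t, ht, rfl⟩ := Subgroup.mem_sup_of_normal_left.1 hg
    exact ⟨t, ht, k, hk, rfl⟩
  have hconj : ∀ g : G, ∀ z ∈ Ω, g * z * g⁻¹ * z⁻¹ ∈ D := by
    intro g z hz
    obtain ⟨t, ht, k, hk, rfl⟩ := hmul g
    have h1 : t * z = z * t := Subgroup.mem_centralizer_iff.1 (omegaZ_le _ hz).2 t ht
    have e : k * t * z * (k * t)⁻¹ * z⁻¹ = ⁅k, z⁆ := by
      rw [commutatorElement_def, mul_assoc k t z, h1]
      simp [mul_assoc]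
    rw [e, hD, Subgroup.commutator_comm]
    exact Subgroup.commutator_mem_commutator hk (hΩZ hz)
  have hZΩD : Z ≤ Ω ⊔ D := by
    refine iSup_le fun S => ?_
    obtain ⟨g, rfl⟩ := MulAction.exists_smul_eq G T S
    intro z hz
    obtain ⟨w, hw, hwz⟩ : ∃ w ∈ Ω, g * w * g⁻¹ = z := by
      refine ⟨g⁻¹ * z * g, ?_, by simp [mul_assoc]⟩
      have h := map_conj_omegaZ_le (p := p) ((g • T : Sylow p G) : Subgroup G) g⁻¹ ⟨z, hz, rfl⟩
      have hid : (((g • T : Sylow p G) : Subgroup G)).map (MulAut.conj g⁻¹).toMonoidHom =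
          (T : Subgroup G) := by
        rw [show ((g • T : Sylow p G) : Subgroup G) =
          (T : Subgroup G).map (MulAut.conj g).toMonoidHom from rfl, Subgroup.map_map]
        convert Subgroup.map_id (T : Subgroup G) using 2
        ext y; simp [mul_assoc]
      rw [hid] at h
      simpa using h
    have h2 := mul_mem (Subgroup.mem_sup_right (S := Ω) (hconj g w hw)) (Subgroup.mem_sup_left (T := D) hw)
    rw [inv_mul_cancel_right] at h2
    rwa [← hwz]
  have hZG : ⁅Z, (⊤ : Subgroup G)⁆ ≤ D := by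
    rw [Subgroup.commutator_comm, Subgroup.commutator_le]
    intro g _ z hz
    obtain ⟨w, hw, d, hd, rfl⟩ := Subgroup.mem_sup_of_normal_right.1 (hZΩD hz)
    have e : ⁅g, w * d⁆ = (g * w * g⁻¹ * w⁻¹) * (w * (g * d * g⁻¹ * d⁻¹) * w⁻¹) := by
      simp [commutatorElement_def, mul_assoc]
    rw [e]
    exact mul_mem (hconj g w hw)
      (hDn.conj_mem _ (mul_mem (hDn.conj_mem d hd g) (inv_mem hd)) w)
  have hΩ1Z : omegaZ p (⊤ : Subgroup G) ≤ Z := by
    refine (Subgroup.closure_le _).2 fun x hx => ?_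
    have hxc : ∀ y, y * x = x * y := fun y =>
      Subgroup.mem_centralizer_iff.1 hx.1.2 y (Subgroup.mem_top y)
    have hxT : x ∈ (T : Subgroup G) := by
      refine Cfsg.Lib.Coprime.pCore_le_sylow p T (hchar (Subgroup.mem_centralizer_iff.2 fun y _ => hxc y))
    exact hΩZ (Subgroup.subset_closure ⟨Subgroup.mem_inf.2 ⟨hxT,
      Subgroup.mem_centralizer_iff.2 fun y _ => hxc y⟩, hx.2⟩)
  refine ⟨le_antisymm ?_ (sup_le hΩ1Z hDZ),
    le_antisymm hZG (Subgroup.commutator_mono le_rfl le_top)⟩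
  refine hZΩD.trans (sup_le ?_ le_sup_right)
  intro z hz
  -- average over the cosets of `T`
  letI : CommGroup Z := { (inferInstance : Group Z) with
    mul_comm := fun a b => Subtype.ext (commute_of_elem hZel a.2 b.2) }
  haveI : Fintype (G ⧸ (T : Subgroup G)) := Fintype.ofFinite _
  have hwd : ∀ a b : G, QuotientGroup.leftRel (T : Subgroup G) a b →
      (⟨a * z * a⁻¹, hZn.conj_mem z (hΩZ hz) a⟩ : Z) = ⟨b * z * b⁻¹, hZn.conj_mem z (hΩZ hz) b⟩ := by
    intro a b hab
    rw [QuotientGroup.leftRel_apply] at hab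
    have h1 := Subgroup.mem_centralizer_iff.1 (omegaZ_le _ hz).2 _ hab
    refine Subtype.ext ?_
    show a * z * a⁻¹ = b * z * b⁻¹
    have h2 := congrArg (fun u => a * u * b⁻¹) h1
    simpa [mul_assoc] using h2.symm
  let f : G ⧸ (T : Subgroup G) → Z :=
    fun q => Quotient.liftOn' q (fun g => ⟨g * z * g⁻¹, hZn.conj_mem z (hΩZ hz) g⟩) hwd
  set c : Z := ∏ q, f q with hc
  have hcc : ∀ g : G, g * (c : G) * g⁻¹ = c := by
    intro g
    let cj : Z →* Z :=
      MonoidHom.mk' (fun w => ⟨g * w * g⁻¹, hZn.conj_mem w w.2 g⟩) fun a b => Subtype.ext (by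
        show g * ((a : G) * b) * g⁻¹ = g * a * g⁻¹ * (g * b * g⁻¹)
        simp [mul_assoc])
    have h1 : cj c = c := by
      rw [hc, map_prod]
      refine Fintype.prod_equiv (MulAction.toPerm g) _ _ fun q => ?_
      induction q using QuotientGroup.induction_on with
      | H a =>
        refine Subtype.ext ?_
        show g * (a * z * a⁻¹) * g⁻¹ = g * a * z * (g * a)⁻¹
        simp [mul_assoc]
    exact congrArg Subtype.val h1
  have hqc : (z ^ Fintype.card (G ⧸ (T : Subgroup G)))⁻¹ * (c : G) ∈ D := by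
    have key : ∀ s : Finset (G ⧸ (T : Subgroup G)),
        (z ^ s.card)⁻¹ * ((∏ q ∈ s, f q : Z) : G) ∈ D := by
      intro s
      induction s using Finset.induction with
      | empty => simp
      | insert a s has ih =>
        have ha : z⁻¹ * (f a : G) ∈ D := by
          induction a using QuotientGroup.induction_on with
          | H b =>
            show z⁻¹ * (b * z * b⁻¹) ∈ D
            have := hDn.conj_mem _ (hconj b z hz) z⁻¹
            simpa [mul_assoc] using this
        have hcomm : (z ^ s.card)⁻¹ * (f a : G) = (f a : G) * (z ^ s.card)⁻¹ :=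
          commute_of_elem hZel (inv_mem (pow_mem (hΩZ hz) _)) (f a).2
        rw [Finset.card_insert_of_notMem has, Finset.prod_insert has, Subgroup.coe_mul, pow_succ,
          mul_inv_rev]
        have e : z⁻¹ * (z ^ s.card)⁻¹ * ((f a : G) * ((∏ q ∈ s, f q : Z) : G)) =
            z⁻¹ * (f a : G) * ((z ^ s.card)⁻¹ * ((∏ q ∈ s, f q : Z) : G)) := by
          rw [mul_assoc z⁻¹, ← mul_assoc (z ^ s.card)⁻¹, hcomm]
          simp [mul_assoc]
        rw [e]
        exact mul_mem ha ih
    exact key Finset.univ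
  have hc1 : (c : G) ∈ omegaZ p (⊤ : Subgroup G) := by
    refine Subgroup.subset_closure ⟨Subgroup.mem_inf.2 ⟨trivial,
      Subgroup.mem_centralizer_iff.2 fun y _ => ?_⟩, hZel.2 _ c.2⟩
    have h2 : y * (c : G) * y⁻¹ * y = c * y := by rw [hcc y]
    rwa [inv_mul_cancel_right] at h2
  have hmem : z ^ (T : Subgroup G).index ∈ omegaZ p (⊤ : Subgroup G) ⊔ D := by
    have h1 : ((c : G))⁻¹ * z ^ (T : Subgroup G).index ∈ D := by
      have := inv_mem hqc
      rw [mul_inv_rev, inv_inv, ← Nat.card_eq_fintype_card] at this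
      exact this
    have := mul_mem (Subgroup.mem_sup_left (T := D) hc1) (Subgroup.mem_sup_right (S := omegaZ p _) h1)
    simpa using this
  have hzp : (orderOf z).Coprime (T : Subgroup G).index :=
    Nat.Coprime.coprime_dvd_left (orderOf_dvd_of_pow_eq_one (hZel.2 z (hΩZ hz)))
      ((Fact.out : p.Prime).coprime_iff_not_dvd.2 T.not_dvd_index)
  obtain ⟨m, hm⟩ := exists_pow_eq_self_of_coprime hzp.symm
  rw [← hm]
  exact pow_mem hmem m

end Cfsg.Lib.Reduced
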