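import Cfsg.Agent.Components.Reduced.FrakHBasic
import Cfsg.Agent.Components.WeaklyClosed.Perfect

/-!
Members of `ℌ(O_p(M))` normalizing a conjugate of a large subgroup.
-/

set_option linter.style.haveILetI false
set_option linter.unusedSectionVars false

namespace Cfsg.Lib.FrakHQ

open Subgroup Cfsg.Lib.Asymmetric
open scoped commutatorElement

variable {G : Type*} [Group G] [Finite G] {p : ℕ} [hp : Fact p.Prime]

theorem map_pCore_bot {Γ : Type*} [Group Γ] [Finite Γ] [(Cfsg.pCore p Γ).Normal] :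
    Cfsg.pCore p (Γ ⧸ Cfsg.pCore p Γ) = ⊥ := by
  rw [← Cfsg.Lib.PIrr.map_pCore_quotient _ (Cfsg.Lib.Components.isPGroup_pCore p), Subgroup.map_eq_bot_iff,
    QuotientGroup.ker_mk']

/-- `N` centralises `O^p` modulo the core -/
theorem quotient_step {Γ : Type*} [Group Γ] [Finite Γ] (N H R Y : Subgroup Γ) [N.Normal] [H.Normal]
    [R.Normal] (hRH : R ≤ H) (hYH : Y ≤ H) (hRY : ⁅R, Y⁆ = R) (hY : ⁅N ⊓ H, Y⁆ ≤ Cfsg.pCore p Γ)
    (hq : ∀ g : Γ, (orderOf g).Coprime p → g ∈ R) : Cfsg.IsPClosed p N := by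
  haveI : (Cfsg.pCore p Γ).Normal := Cfsg.Lib.Components.pCore_normal' p
  set π := QuotientGroup.mk' (Cfsg.pCore p Γ) with hπ
  have hπs : Function.Surjective π := QuotientGroup.mk'_surjective _
  set N' := (N ⊓ H).map π
  haveI : N'.Normal := Normal.map inferInstance π hπs
  haveI : (R.map π).Normal := Normal.map inferInstance π hπs
  have hYc : Y.map π ≤ centralizer (N' : Set _) := by
    rw [← commutator_eq_bot_iff_le_centralizer, commutator_comm, ← Subgroup.map_commutator, Subgroup.map_eq_bot_iff,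
      hπ, QuotientGroup.ker_mk']
    exact hY
  have hRc : R.map π ≤ centralizer (N' : Set _) := by
    conv_lhs => rw [← hRY, Subgroup.map_commutator]
    exact (commutator_mono le_rfl hYc).trans (commutator_le_right _ _)
  set NN := N.map π
  haveI : NN.Normal := Normal.map inferInstance π hπs
  have hNR : ⁅N.map π, R.map π⁆ ≤ N' := by
    rw [← Subgroup.map_commutator]
    exact map_mono ((commutator_mono le_rfl hRH).trans (commutator_le_inf N H))
  have hNY : ⁅Y.map π, N.map π⁆ ≤ N' := by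
    rw [← Subgroup.map_commutator]
    exact map_mono ((commutator_mono hYH le_rfl).trans ((commutator_comm H N).le.trans (commutator_le_inf N H)))
  have e1 : ⁅⁅Y.map π, N.map π⁆, R.map π⁆ = ⊥ := commutator_eq_bot_iff_le_centralizer.mpr
    (hNY.trans (le_centralizer_iff.mp hRc))
  have e2 : ⁅⁅N.map π, R.map π⁆, Y.map π⁆ = ⊥ := commutator_eq_bot_iff_le_centralizer.mpr
    (hNR.trans (le_centralizer_iff.mp hYc))
  have e3 : ⁅⁅R.map π, Y.map π⁆, N.map π⁆ = ⊥ := commutator_commutator_eq_bot_of_rotate e1 e2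
  rw [← Subgroup.map_commutator, hRY, commutator_comm, commutator_eq_bot_iff_le_centralizer] at e3
  have hq' : ∀ g : Γ ⧸ Cfsg.pCore p Γ, (orderOf g).Coprime p → g ∈ R.map π := fun g hg => by
    have hle : Cfsg.pResidual p Γ ≤ R := (closure_le R).mpr hq
    exact map_mono hle ((Cfsg.Lib.PIrr.map_pResidual_quotient (p := p) (Cfsg.pCore p Γ)).ge
      (Cfsg.Lib.Transfer.mem_pResidual_of_coprime hg))
  obtain ⟨T⟩ : Nonempty (Sylow p Γ) := inferInstance
  refine (Cfsg.Lib.PIrr.isPClosed_iff T).2 fun t ht => ?_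
  have hY' : IsPGroup p (((T : Subgroup Γ) ⊓ N).map π) := (T.2.to_le inf_le_left).map π
  have h := Cfsg.Lib.WPerfect.no_p_centralizing map_pCore_bot hq' hY' ((map_mono inf_le_right).trans e3)
  rw [Subgroup.map_eq_bot_iff, hπ, QuotientGroup.ker_mk'] at h
  exact h ht

variable (S : Sylow p G) {Q M H : Subgroup G}

theorem main (hQp : IsPGroup p Q) (hQ1 : Q ≠ ⊥) (hQ : Cfsg.IsLarge Q) (hSM : (S : Subgroup G) ≤ M)
    (hM : Cfsg.IsInFrakM p M) (hasym : ¬ Cfsg.IsSymmetricIn (Cfsg.largestPReducedOf p M))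
    (hH : Cfsg.IsInFrakH p M H) (Q' : Subgroup G) (hQ'p : IsPGroup p Q') (hHQ : H ≤ normalizer (Q' : Set G)) :
    Q' ≤ Cfsg.pCoreOf p (H ⊔ Q') ∧
    Cfsg.pCoreOf p (H ⊔ Q') ≤ normalizer (Cfsg.pCoreOf p M : Set G) ∧
    normalizer (Cfsg.pCoreOf p M : Set G) ≤ normalizer (Cfsg.largestPReducedOf p M : Set G) ∧
    normalizer (Cfsg.largestPReducedOf p M : Set G) = M ⊔ centralizer (Cfsg.largestPReducedOf p M : Set G) ∧
    (H.subgroupOf (H ⊔ Q')).Normal ∧ WFactor.RO p H = WFactor.RO p (H ⊔ Q') ∧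
    Cfsg.IsPIrreducible p ↥(H ⊔ Q') := by
  obtain ⟨h1, hNP, -⟩ := Cfsg.Lib.Asymmetric.main S hQp hQ1 hQ hSM hM hasym
  obtain ⟨-, hRY, -, -, hHncl⟩ := Cfsg.Lib.FrakHBasic.main S hQp hQ1 hQ hSM hM hasym hH
  obtain ⟨-, hPH, hYH, hproper⟩ := hH
  set Y := Cfsg.largestPReducedOf p M
  set P := Cfsg.pCoreOf p M
  set R := WFactor.RO p H
  set K := H ⊔ Q' with hK
  have hPp : IsPGroup p P := (Cfsg.Lib.Components.isPGroup_pCore p).map _
  have hYP : Y ≤ P := Cfsg.Lib.Reduced.largestOf_le_pCoreOf M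
  have hdag : M ⊔ centralizer (Y : Set G) ≤ normalizer (Y : Set G) :=
    sup_le (Cfsg.Lib.Reduced.normalizer_largestOf M) (centralizer_le_normalizer _)
  have hY1 : Y ≠ ⊥ := Cfsg.Lib.BasicProperty.omega_ne_bot S hSM hM.1
  have hNY : normalizer (Y : Set G) = M ⊔ centralizer (Y : Set G) := le_antisymm
    (le_dagger hM (Cfsg.Lib.BasicProperty.local_large hQp hQ1 hQ S Y (hPp.to_le hYP) hY1
      (hSM.trans (le_sup_left.trans hdag))) (le_sup_left.trans hdag)) hdag
  have hKn : K ≤ normalizer (Q' : Set G) := sup_le hHQ le_normalizer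
  have hQK : Q' ≤ Cfsg.pCoreOf p K := Cfsg.Lib.Large.le_pCoreOf le_sup_right hQ'p hKn
  have hPK : P ≤ K := hPH.trans le_sup_left
  have hOP : Cfsg.pCoreOf p K ≤ normalizer (P : Set G) := le_sup_left.trans
    (h1 _ (((Cfsg.Lib.Components.isPGroup_pCore p).map _).to_sup_of_normal_left' hPp
      (hPK.trans (le_normalizer.trans (Cfsg.Lib.Large.normalizer_pCoreOf_le K)))) le_sup_right).1
  have hQP : Q' ≤ normalizer (P : Set G) := hQK.trans hOP
  have hQH : Q' ≤ normalizer (H : Set G) := by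
    intro q hq
    rw [mem_normalizer_iff_map_conj_eq]
    refine Subgroup.eq_of_le_of_card_ge ?_ (Cfsg.Lib.Transfer.card_map_conj H q).ge
    conv_lhs => rw [← hHncl, normalClosure, MonoidHom.map_closure, MonoidHom.map_closure]
    rw [closure_le]
    rintro _ ⟨_, ⟨x, hx, rfl⟩, rfl⟩
    obtain ⟨y, hy, hxy⟩ := Group.mem_conjugatesOfSet_iff.1 hx
    obtain ⟨c, rfl⟩ := isConj_iff.1 hxy
    show q * ((c : G) * (y : G) * (c : G)⁻¹) * q⁻¹ ∈ H
    have hq' : (c : G)⁻¹ * q * c ∈ Q' := by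
      simpa using (mem_normalizer_iff.mp (hHQ (inv_mem c.2)) q).mp hq
    have h := (mem_normalizer_iff.mp (hQP hq') (y : G)).mp hy
    rw [show q * ((c : G) * (y : G) * (c : G)⁻¹) * q⁻¹ =
      c * (((c : G)⁻¹ * q * c) * y * ((c : G)⁻¹ * q * c)⁻¹) * (c : G)⁻¹ by group]
    exact mul_mem (mul_mem c.2 (hPH h)) (inv_mem c.2)
  have hKH : K ≤ normalizer (H : Set G) := sup_le le_normalizer hQH
  haveI hHn : (H.subgroupOf K).Normal := normal_subgroupOf_of_le_normalizer hKH
  have hRO : R = WFactor.RO p K := by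
    refine le_antisymm (WFactor.ro_mono le_sup_left) (WFactor.ro_le_of K R fun x hx hc => ?_)
    exact WFactor.mem_ro (WFactor.ro_sup_le hQ'p hQH (WFactor.mem_ro hx hc)) hc
  have hKR : K ≤ normalizer (R : Set G) := hKH.trans (WFactor.le_normalizer_ro H)
  haveI : (R.subgroupOf K).Normal := normal_subgroupOf_of_le_normalizer hKR
  have hYK : Y ≤ K := hYP.trans hPK
  have hRK : R ≤ K := (WFactor.ro_le H).trans le_sup_left
  have hcoreH : ∀ X : Subgroup G, X ≤ H → H ≤ normalizer (X : Set G) → ∀ Z, Z ≤ X → IsPGroup p Z →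
      X ≤ normalizer (Z : Set G) → Z ≤ Cfsg.pCoreOf p H := fun X hX hn Z hZ hZp hXZ =>
    (Cfsg.Lib.Large.le_pCoreOf hZ hZp hXZ).trans (Cfsg.Lib.FrakHBasic.core_mono_normal hX hn)
  have hOHK : Cfsg.pCoreOf p H ≤ Cfsg.pCoreOf p K :=
    Cfsg.Lib.FrakHBasic.core_mono_normal le_sup_left hKH
  refine ⟨hQK, hOP, hNP.trans hdag, hNY, hHn, hRO, fun hcl => ?_, fun N hN hNc => ?_⟩
  · obtain ⟨T, hT⟩ := (hPp.comap_subtype (K := K)).exists_le_sylow
    have hTO := (Cfsg.Lib.PIrr.isPClosed_top_iff T).1 hcl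
    refine hYH ?_
    have hY2 : Y ≤ Cfsg.pCoreOf p K ⊓ H :=
      le_inf (fun y hy => ⟨⟨y, hYK hy⟩, hTO (hT (show (⟨y, hYK hy⟩ : K) ∈ P.subgroupOf K from hYP hy)), rfl⟩)
        (hYP.trans hPH)
    exact hY2.trans (Cfsg.Lib.Large.le_pCoreOf inf_le_right
      (((Cfsg.Lib.Components.isPGroup_pCore p).map _).to_le inf_le_left)
      (Cfsg.Lib.Coprime.le_normalizer_inf (le_sup_left.trans
        (le_normalizer.trans (Cfsg.Lib.Large.normalizer_pCoreOf_le K))) le_normalizer))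
  · haveI := hN
    set N₀ := N.map K.subtype ⊓ H
    have hN₀n : H ≤ normalizer (N₀ : Set G) := Cfsg.Lib.Coprime.le_normalizer_inf
      (le_sup_left.trans (fun k hk => Cfsg.Lib.Large.mem_normalizer_of_le _ (by
        rintro _ ⟨n, hn, rfl⟩
        exact ⟨⟨k, hk⟩ * n * ⟨k, hk⟩⁻¹, hN.conj_mem n hn _, rfl⟩))) le_normalizer
    set X := N₀ ⊔ P
    by_cases hX : X = H
    · -- `O^p(K) ≤ N`
      have h : R ≤ N₀ := WFactor.ro_le_of H N₀ fun x hx hc =>
        Cfsg.Lib.PIrr.coprime_mem hPp (hPH.trans hN₀n) (hX.ge hx) hc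
      intro x hx
      have hx' : (x : G) ∈ N₀ := h (hRO.ge ⟨x, hx, rfl⟩)
      exact (mem_map_iff_mem K.subtype_injective).mp (mem_inf.mp hx').1
    · exfalso
      have hYX := hproper X le_sup_right (lt_of_le_of_ne (sup_le inf_le_right hPH) hX)
      have hc : ⁅N₀, Y⁆ ≤ Cfsg.pCoreOf p H := by
        have h2 : X ≤ normalizer (Cfsg.pCoreOf p X : Set G) :=
          le_normalizer.trans (Cfsg.Lib.Large.normalizer_pCoreOf_le X)
        refine le_trans (le_inf (le_normalizer_iff_commutator_le_left.mp (hYP.trans (hPH.trans hN₀n)))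
          ((commutator_mono le_rfl hYX).trans (le_normalizer_iff_commutator_le_right.mp (le_sup_left.trans h2)))) ?_
        exact hcoreH N₀ inf_le_right hN₀n _ inf_le_left
          (((Cfsg.Lib.Components.isPGroup_pCore p).map _).to_le inf_le_right)
          (Cfsg.Lib.Coprime.le_normalizer_inf le_normalizer (le_sup_left.trans h2))
      refine hNc (quotient_step N (H.subgroupOf K) (R.subgroupOf K) (Y.subgroupOf K)
        (comap_mono (WFactor.ro_le H)) (comap_mono (hYP.trans hPH)) ?_ ?_ ?_)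
      · refine map_injective K.subtype_injective ?_
        rw [Subgroup.map_commutator, map_subgroupOf_eq_of_le hRK, map_subgroupOf_eq_of_le hYK]
        exact hRY
      · refine (map_le_map_iff_of_injective K.subtype_injective).1 ?_
        rw [Subgroup.map_commutator, Subgroup.map_inf _ _ _ K.subtype_injective, map_subgroupOf_eq_of_le le_sup_left,
          map_subgroupOf_eq_of_le hYK]
        exact hc.trans hOHK
      · intro g hg
        show (g : G) ∈ R
        rw [hRO]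
        exact WFactor.mem_ro g.2 (by rw [Subgroup.orderOf_coe]; exact hg)

end Cfsg.Lib.FrakHQ
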