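import Cfsg.Agent.Components.Reduced.Sub
import Cfsg.Agent.Components.Misc.Large
import Cfsg.Agent.S2824
import Cfsg.Agent.S2821

/-!
Existence of subgroups with the basic property.
-/

set_option linter.style.haveILetI false
set_option linter.unusedSectionVars false

namespace Cfsg.Lib.BasicProperty

open Subgroup

variable {G : Type*} [Group G] [Finite G] {p : ℕ} [hp : Fact p.Prime]

theorem charP_of_mem {X : Subgroup G} (hX : X ∈ Cfsg.charPSubgroups p G) :
    centralizer (Cfsg.pCore p X : Set X) ≤ Cfsg.pCore p X := by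
  intro x hx
  refine (mem_map_iff_mem X.subtype_injective).mp (hX.2 (mem_centralizer_iff.mpr ?_))
  rintro _ ⟨y, hy, rfl⟩
  exact congrArg Subtype.val (mem_centralizer_iff.mp hx y hy)

theorem mem_of_parabolic (T : Sylow p G) {X Z : Subgroup G} (hTX : (T : Subgroup G) ≤ X) (hXZ : X ≤ Z)
    (hZ : Z ∈ Cfsg.charPSubgroups p G) : X ∈ Cfsg.charPSubgroups p G := by
  set O := Cfsg.pCoreOf p Z with hO
  have hOX : O ≤ X := (Cfsg.Lib.Reduced.pCoreOf_le_sylow T (hTX.trans hXZ)).trans hTX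
  have hOP : O ≤ Cfsg.pCoreOf p X := Cfsg.Lib.Large.le_pCoreOf hOX
    ((Cfsg.Lib.Components.isPGroup_pCore p).map _)
    (hXZ.trans (le_normalizer.trans (Cfsg.Lib.Large.normalizer_pCoreOf_le Z)))
  refine ⟨fun h => hZ.1 ?_, ((centralizer_le (SetLike.coe_subset_coe.mpr hOP)).trans hZ.2).trans hOP⟩
  have h1 : O ≤ ⊥ := hOP.trans (by rw [Cfsg.pCoreOf, h, Subgroup.map_bot])
  exact (map_eq_bot_iff_of_injective _ Z.subtype_injective).mp (le_bot_iff.mp h1)

theorem largest_mono (T : Sylow p G) {K X : Subgroup G} (hTK : (T : Subgroup G) ≤ K) (hKX : K ≤ X)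
    (hX : X ∈ Cfsg.charPSubgroups p G) : Cfsg.largestPReducedOf p K ≤ Cfsg.largestPReducedOf p X := by
  set R := K.subgroupOf X
  let e : R ≃* K := subgroupOfEquivOfLe hKX
  have h := Cfsg.Lib.Reduced.isReduced_normalClosure (charP_of_mem hX) (T.subtype (hTK.trans hKX)) R
    (fun x hx => hTK hx) (Cfsg.largestPReduced p R) Cfsg.Lib.Reduced.largest_isReduced
  rintro _ ⟨k, hk, rfl⟩
  rw [← Cfsg.Lib.Reduced.largest_map_equiv e] at hk
  obtain ⟨y, hy, rfl⟩ := hk
  exact ⟨(y : X), Cfsg.Lib.Reduced.le_largest h (subset_normalClosure ⟨y, hy, rfl⟩), rfl⟩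

theorem omega_ne_bot (T : Sylow p G) {L : Subgroup G} (hTL : (T : Subgroup G) ≤ L)
    (hL : L ∈ Cfsg.charPSubgroups p G) : Cfsg.largestPReducedOf p L ≠ ⊥ := by
  intro h
  have hT : (T : Subgroup G) ≠ ⊥ := fun hb => by
    have h1 : Cfsg.pCoreOf p L ≤ ⊥ := (Cfsg.Lib.Reduced.pCoreOf_le_sylow T hTL).trans hb.le
    exact hL.1 ((map_eq_bot_iff_of_injective _ L.subtype_injective).mp (le_bot_iff.mp h1))
  haveI : Nontrivial (T : Subgroup G) := (nontrivial_iff_ne_bot _).mpr hT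
  haveI := T.2.center_nontrivial
  obtain ⟨⟨z, hzc⟩, hz⟩ := exists_ne (1 : center (T : Subgroup G))
  obtain ⟨k, hk⟩ := IsPGroup.iff_card.mp (T.2.to_subgroup (center (T : Subgroup G)))
  have hdvd : p ∣ Nat.card (center (T : Subgroup G)) := by
    have h1 : 1 < Nat.card (center (T : Subgroup G)) := Finite.one_lt_card
    rw [hk] at h1 ⊢
    exact dvd_pow_self p (fun h0 => by rw [h0, pow_zero] at h1; exact lt_irrefl 1 h1)
  obtain ⟨w, hw⟩ := exists_prime_orderOf_dvd_card' p hdvd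
  obtain ⟨-, -, -, h4, h5, -⟩ := Cfsg.Agent.S2821.result T L hTL (charP_of_mem hL) _ rfl
  have hmem : (((w : (T : Subgroup G))) : G) ∈ Cfsg.largestPReducedOf p L := by
    refine h5 (h4 (subset_closure ⟨mem_inf.mpr ⟨(w : (T : Subgroup G)).2, mem_centralizer_iff.mpr fun t ht => ?_⟩, ?_⟩))
    · exact congrArg Subtype.val (mem_center_iff.mp w.2 ⟨t, ht⟩)
    · have := pow_orderOf_eq_one w
      rw [hw] at this
      simpa using congrArg (fun z : center (T : Subgroup G) => ((z : (T : Subgroup G)) : G)) this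
  rw [h, mem_bot] at hmem
  rw [← Subgroup.orderOf_coe, ← Subgroup.orderOf_coe, hmem, orderOf_one] at hw
  exact hp.out.one_lt.ne hw

theorem main (T : Sylow p G) (L : Subgroup G) (hTL : (T : Subgroup G) ≤ L) (hL : L ∈ Cfsg.charPSubgroups p G)
    (hloc : ∀ R : Subgroup G, IsPGroup p R → R ≠ ⊥ → (T : Subgroup G) ≤ normalizer (R : Set G) →
      normalizer (R : Set G) ∈ Cfsg.charPSubgroups p G) :
    ∃ M Ls : Subgroup G, (T : Subgroup G) ≤ M ∧ Cfsg.IsInFrakM p M ∧ (T : Subgroup G) ≤ Ls ∧ Ls ≤ M ∧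
      Ls ∈ Cfsg.charPSubgroups p G ∧ Cfsg.largestPReducedOf p L = Cfsg.largestPReducedOf p Ls ∧
      Cfsg.largestPReducedOf p L ≤ Cfsg.largestPReducedOf p M ∧
      L ⊔ centralizer (Cfsg.largestPReducedOf p L : Set G) = Ls ⊔ centralizer (Cfsg.largestPReducedOf p L : Set G) := by
  set YL := Cfsg.largestPReducedOf p L with hYL
  set CL := centralizer (YL : Set G) with hCL
  let P : Subgroup G → Prop := fun X => (T : Subgroup G) ≤ X ∧ X ∈ Cfsg.charPSubgroups p G ∧
    ∃ L0, (T : Subgroup G) ≤ L0 ∧ L0 ≤ X ∧ L0 ⊔ CL = L ⊔ CL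
  have hPY : ∀ {X : Subgroup G}, P X → YL ≤ Cfsg.largestPReducedOf p X := by
    rintro X ⟨hTX, hX, L0, hT0, h0X, heq⟩
    exact (Cfsg.Lib.Reduced.largest_transfer T L0 L hT0 hTL heq).trans (largest_mono T hT0 h0X hX)
  haveI : Nonempty {X // P X} := ⟨⟨L, hTL, hL, L, hTL, le_rfl, rfl⟩⟩
  obtain ⟨⟨X, hX⟩, hmax⟩ := Finite.exists_max fun X : {X // P X} => Nat.card ↥(Cfsg.largestPReducedOf p X.1)
  set Y := Cfsg.largestPReducedOf p X with hY
  have hY1 : Y ≠ ⊥ := omega_ne_bot T hX.1 hX.2.1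
  have hXN : X ≤ normalizer (Y : Set G) := Cfsg.Lib.Reduced.normalizer_largestOf X
  set N := normalizer (Y : Set G) with hN
  have hTN : (T : Subgroup G) ≤ N := hX.1.trans hXN
  have hNm : N ∈ Cfsg.charPSubgroups p G :=
    hloc Y (Cfsg.Lib.Reduced.isPGroup_of_elem (Cfsg.Lib.Reduced.largestOf_elem X)) hY1 hTN
  have hup : ∀ Z : Subgroup G, P Z → Y ≤ Cfsg.largestPReducedOf p Z → Cfsg.largestPReducedOf p Z = Y :=
    fun Z hZ h => (Subgroup.eq_of_le_of_card_ge h (hmax ⟨Z, hZ⟩)).symm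
  have hPN : P N := ⟨hTN, hNm, hX.2.2.imp fun L0 h => ⟨h.1, h.2.1.trans hXN, h.2.2⟩⟩
  have hYN : Cfsg.largestPReducedOf p N = Y := hup N hPN (largest_mono T hX.1 hXN hNm)
  set C := centralizer (Y : Set G) with hC
  have hCN : C ≤ N := centralizer_le_normalizer _
  have hNC : N ≤ normalizer (C : Set G) := Cfsg.Lib.Large.normalizer_centralizer_le Y
  -- minimal supplement
  obtain ⟨M, ⟨hTM, hMN, hMC⟩, hmin⟩ := WellFounded.has_min (wellFounded_lt (α := Subgroup G))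
    {M | (T : Subgroup G) ≤ M ∧ M ≤ N ∧ M ⊔ C = N} ⟨N, hTN, le_rfl, sup_eq_left.mpr hCN⟩
  have hM : M ∈ Cfsg.charPSubgroups p G := mem_of_parabolic T hTM hMN hNm
  have hYM : Cfsg.largestPReducedOf p M = Y := by
    refine le_antisymm ((largest_mono T hTM hMN hNm).trans hYN.le) ?_
    rw [← hYN]
    refine Cfsg.Lib.Reduced.largest_transfer T M N hTM hTN ?_
    rw [hYN, ← hC, hMC, sup_eq_left.mpr hCN]
  -- the subgroup `L*`
  have hCCL : C ≤ CL := centralizer_le (SetLike.coe_subset_coe.mpr (hPY hX))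
  obtain ⟨L0, hT0, h0X, heq⟩ := hPN.2.2
  set L1 := M ⊓ (L0 ⊔ C) with hL1
  have hT1 : (T : Subgroup G) ≤ L1 := le_inf hTM (hT0.trans le_sup_left)
  have hL1m : L1 ∈ Cfsg.charPSubgroups p G := mem_of_parabolic T hT1 inf_le_left hM
  have hL1eq : L1 ⊔ CL = L ⊔ CL := by
    refine le_antisymm (sup_le (inf_le_right.trans ?_) le_sup_right) ?_
    · exact sup_le (le_sup_left.trans heq.le) (hCCL.trans le_sup_right)
    · rw [← heq]
      refine sup_le (fun x hx => ?_) le_sup_right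
      have hx' : x ∈ C ⊔ M := (sup_comm C M).trans hMC ▸ h0X hx
      obtain ⟨c, hc, m, hm, rfl⟩ := (Cfsg.Lib.Coprime.mem_sup_of_le_normalizer (hMN.trans hNC)).1 hx'
      refine mul_mem (mem_sup_right (hCCL hc)) (mem_sup_left (mem_inf.mpr ⟨hm, ?_⟩))
      simpa using mul_mem (inv_mem (mem_sup_right (S := L0) hc)) (mem_sup_left (T := C) hx)
  set T0L := (T : Subgroup G) ⊓ CL
  obtain ⟨hY2, hC2⟩ := Cfsg.Agent.S2824.result T L L1 hTL hT1 (charP_of_mem hL) (charP_of_mem hL1m) T0L rfl hL1eq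
    (L1 ⊓ normalizer (T0L : Set G)) rfl
  have hT2 : (T : Subgroup G) ≤ L1 ⊓ normalizer (T0L : Set G) :=
    le_inf hT1 (Cfsg.Lib.Coprime.le_normalizer_inf le_normalizer
      ((hTL.trans (Cfsg.Lib.Reduced.normalizer_largestOf L)).trans (Cfsg.Lib.Large.normalizer_centralizer_le YL)))
  -- `C_M(Y)` is `p`-closed
  set T₀ := (T : Subgroup G) ⊓ C with hT₀
  have h21 := (Cfsg.Agent.S2821.result T N hTN (charP_of_mem hNm) T₀ (by rw [hYN])).1
  rw [hYN] at h21
  obtain ⟨P₀, hP₀⟩ := h21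
  have hfac : M ⊔ centralizer (Cfsg.largestPReducedOf p N : Set G) =
      N ⊔ centralizer (Cfsg.largestPReducedOf p N : Set G) := by rw [hYN, hMC, sup_eq_left.mpr hCN]
  obtain ⟨-, hC3⟩ := Cfsg.Agent.S2824.result T N M hTN hTM (charP_of_mem hNm) (charP_of_mem hM) T₀ (by rw [hYN]) hfac _ rfl
  rw [hYN, sup_eq_left.mpr hCN] at hC3
  have hT0n : M ≤ normalizer (T₀ : Set G) := by
    have h1 : (T : Subgroup G) ≤ normalizer (T₀ : Set G) :=
      Cfsg.Lib.Coprime.le_normalizer_inf le_normalizer (hTN.trans hNC)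
    by_contra hne
    exact hmin _ ⟨le_inf hTM h1, inf_le_left.trans hMN, hC3.symm⟩ (inf_lt_left.mpr hne)
  set D := M ⊓ C with hD
  have hT0D : T₀ ≤ D := le_inf (inf_le_left.trans hTM) inf_le_right
  have hT0max : ∀ R : Subgroup G, IsPGroup p R → R ≤ C → T₀ ≤ R → R = T₀ := by
    intro R hR hRC hle
    refine le_antisymm ?_ hle
    intro r hr
    have h := P₀.3 (hR.comap_subtype (K := _)) (hP₀.le.trans (comap_mono hle))
    exact hP₀.le (h.le (show (⟨r, hRC hr⟩ : C) ∈ R.comap C.subtype from hr))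
  have hclosed : Cfsg.IsPClosed p D := by
    intro S
    haveI : (T₀.subgroupOf D).Normal := normal_subgroupOf_of_le_normalizer (inf_le_left.trans hT0n)
    have hle : T₀.subgroupOf D ≤ (S : Subgroup D) :=
      (Cfsg.Lib.Components.le_pCore (N := T₀.subgroupOf D) ((T.2.to_le inf_le_left).comap_subtype)).trans
        (Cfsg.Lib.Coprime.pCore_le_sylow p S)
    have h1 := hT0max ((S : Subgroup D).map D.subtype) (S.2.map _) ((map_subtype_le _).trans inf_le_right)
      fun t ht => ⟨⟨t, hT0D ht⟩, hle (show (⟨t, hT0D ht⟩ : D) ∈ T₀.subgroupOf D from ht), rfl⟩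
    have h2 : (S : Subgroup D) = T₀.subgroupOf D := le_antisymm (fun x hx => h1.le ⟨x, hx, rfl⟩) hle
    rw [h2]
    infer_instance
  refine ⟨M, L1 ⊓ normalizer (T0L : Set G), hTM, ?_, hT2, inf_le_left.trans inf_le_left,
    mem_of_parabolic T hT2 inf_le_left hL1m, hY2.symm, (hPY hX).trans hYM.ge, hC2⟩
  have hmaxN : N ∈ Cfsg.maxCharPSubgroups p G := by
    refine ⟨hNm, fun Z hZ hle => le_antisymm ?_ hle⟩
    have h := hup Z ⟨hTN.trans hle, hZ, hPN.2.2.imp fun L0 h => ⟨h.1, h.2.1.trans hle, h.2.2⟩⟩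
      (hYN.ge.trans (largest_mono T hTN hle hZ))
    exact (Cfsg.Lib.Reduced.normalizer_largestOf Z).trans (le_of_eq (by rw [h]))
  rw [Cfsg.IsInFrakM, hYM, ← hC, hMC]
  refine ⟨hM, hmaxN, fun Z hZ hle => ?_, hYN.symm, hclosed, ?_⟩
  · have h := hup Z ⟨hTM.trans hle, hZ.1, L1, hT1, inf_le_left.trans hle, hL1eq⟩
      (hYM.ge.trans (largest_mono T hTM hle hZ.1))
    exact (hZ.2 N hNm ((Cfsg.Lib.Reduced.normalizer_largestOf Z).trans (le_of_eq (by rw [h])))).symm
  -- Frattini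
  rintro _ ⟨d, hd, rfl⟩
  rw [frattini, Order.radical, mem_iInf]
  intro K
  rw [mem_iInf]
  intro hK
  set π := QuotientGroup.mk' (Cfsg.pCore p M) with hπ
  set K' := K.comap π
  have hK' : IsCoatom K' := isCoatom_comap_of_surjective (QuotientGroup.mk'_surjective _) hK
  by_contra hdK
  haveI : (D.subgroupOf M).Normal := normal_subgroupOf_of_le_normalizer
    (Cfsg.Lib.Coprime.le_normalizer_inf le_normalizer (hMN.trans hNC))
  have hsup : K' ⊔ D.subgroupOf M = ⊤ := (hK'.le_iff.mp le_sup_left).resolve_right fun h => hdK ((le_sup_right.trans h.le) hd)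
  have hOK : Cfsg.pCore p M ≤ K' := fun x hx => by
    show π x ∈ K
    rw [show π x = 1 from (QuotientGroup.eq_one_iff x).mpr hx]
    exact one_mem K
  have hT0O : T₀.subgroupOf M ≤ Cfsg.pCore p M := by
    haveI : (T₀.subgroupOf M).Normal := normal_subgroupOf_of_le_normalizer hT0n
    exact Cfsg.Lib.Components.le_pCore (N := T₀.subgroupOf M) (T.2.to_le inf_le_left).comap_subtype
  have hidx : ¬ p ∣ K'.index := by
    rw [← relIndex_top_right K', ← hsup, ← Cfsg.Lib.Transfer.relIndex_eq_relIndex_sup_of_normal]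
    intro hdvd
    have h1 : K'.relIndex (D.subgroupOf M) ∣ (T₀.subgroupOf M).relIndex (D.subgroupOf M) :=
      relIndex_dvd_of_le_left _ (hT0O.trans hOK)
    rw [relIndex_subgroupOf inf_le_left] at h1
    obtain ⟨S⟩ : Nonempty (Sylow p D) := inferInstance
    have hle : T₀.subgroupOf D ≤ (S : Subgroup D) := by
      haveI : (T₀.subgroupOf D).Normal := normal_subgroupOf_of_le_normalizer (inf_le_left.trans hT0n)
      exact (Cfsg.Lib.Components.le_pCore (N := T₀.subgroupOf D) (T.2.to_le inf_le_left).comap_subtype).trans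
        (Cfsg.Lib.Coprime.pCore_le_sylow p S)
    have h2 := hT0max ((S : Subgroup D).map D.subtype) (S.2.map _) ((map_subtype_le _).trans inf_le_right)
      fun t ht => ⟨⟨t, hT0D ht⟩, hle (show (⟨t, hT0D ht⟩ : D) ∈ T₀.subgroupOf D from ht), rfl⟩
    have h3 : (((S : Subgroup D).map D.subtype)).relIndex D = (S : Subgroup D).index :=
      congrArg Subgroup.index (comap_map_eq_self_of_injective D.subtype_injective _)
    rw [← h2, ← hD, h3] at h1
    exact S.not_dvd_index (hdvd.trans h1)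
  obtain ⟨S⟩ : Nonempty (Sylow p K') := inferInstance
  let S' : Sylow p M := (S.2.map K'.subtype).toSylow (by
    rw [← relIndex_top_right ((S : Subgroup K').map K'.subtype), ← relIndex_mul_relIndex _ K' ⊤ (map_subtype_le _) le_top,
      relIndex_top_right, relIndex, subgroupOf, comap_map_eq_self_of_injective K'.subtype_injective]
    exact hp.out.not_dvd_mul S.not_dvd_index hidx)
  obtain ⟨g, hg⟩ := MulAction.exists_smul_eq M S' (T.subtype hTM)
  set K1 := K'.map (MulAut.conj g).toMonoidHom with hK1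
  set J := K1.map M.subtype
  have hTJ : (T : Subgroup G) ≤ J := by
    intro t ht
    refine ⟨⟨t, hTM ht⟩, ?_, rfl⟩
    have ht' : (⟨t, hTM ht⟩ : M) ∈ ((g • S' : Sylow p M) : Subgroup M) := by rw [hg]; exact ht
    rw [Cfsg.Lib.Transfer.sylow_smul_coe] at ht'
    exact map_mono (map_subtype_le _) ht'
  have hsup1 : K1 ⊔ D.subgroupOf M = ⊤ := by
    have h := congrArg (Subgroup.map (MulAut.conj g).toMonoidHom) hsup
    rwa [Subgroup.map_sup, map_top_of_surjective (MulAut.conj g).toMonoidHom (MulAut.conj g).surjective,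
      show (D.subgroupOf M).map (MulAut.conj g).toMonoidHom = D.subgroupOf M from
        mem_normalizer_iff_map_conj_eq.1 ((normalizer_eq_top_iff.2 (inferInstance : (D.subgroupOf M).Normal)).ge (mem_top g))] at h
  have hJC : J ⊔ C = N := by
    refine le_antisymm (sup_le ((map_subtype_le _).trans hMN) hCN) ?_
    rw [← hMC]
    refine sup_le (fun m hm => ?_) le_sup_right
    have h := mem_map_of_mem M.subtype (hsup1.ge (mem_top (⟨m, hm⟩ : M)))
    rw [Subgroup.map_sup] at h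
    exact sup_le_sup le_rfl ((map_subgroupOf_eq_of_le inf_le_left).le.trans inf_le_right) h
  refine hmin J ⟨hTJ, (map_subtype_le _).trans hMN, hJC⟩ (lt_of_le_of_ne (map_subtype_le _) fun e => ?_)
  refine hK'.1 ?_
  have h1 : K1 = ⊤ := by
    rw [eq_top_iff]
    rintro x -
    obtain ⟨y, hy, hyx⟩ := e.ge x.2
    rwa [← M.subtype_injective hyx]
  rw [hK1] at h1
  exact map_injective (MulAut.conj g).injective (h1.trans (map_top_of_surjective _ (MulAut.conj g).surjective).symm)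

end Cfsg.Lib.BasicProperty

namespace Cfsg.Lib.BasicProperty

open Subgroup

variable {G : Type*} [Group G] [Finite G] {p : ℕ} [hp : Fact p.Prime]

theorem core_ne_bot (R : Subgroup G) (hR : IsPGroup p R) (hR1 : R ≠ ⊥) :
    Cfsg.pCore p (normalizer (R : Set G)) ≠ ⊥ ∧ R ≤ Cfsg.pCoreOf p (normalizer (R : Set G)) := by
  have h := Cfsg.Lib.Large.le_pCoreOf le_normalizer hR le_rfl
  exact ⟨fun hb => hR1 (le_bot_iff.mp (h.trans (by rw [Cfsg.pCoreOf, hb, Subgroup.map_bot]))), h⟩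

theorem local_parabolic (hG : Cfsg.IsOfParabolicCharacteristic p G) (T : Sylow p G) (R : Subgroup G)
    (hR : IsPGroup p R) (hR1 : R ≠ ⊥) (hT : (T : Subgroup G) ≤ normalizer (R : Set G)) :
    normalizer (R : Set G) ∈ Cfsg.charPSubgroups p G := by
  obtain ⟨hne, hle⟩ := core_ne_bot R hR hR1
  refine ⟨hne, fun x hx => ?_⟩
  have hxN : x ∈ normalizer (R : Set G) :=
    centralizer_le_normalizer _ (centralizer_le (SetLike.coe_subset_coe.mpr hle) hx)
  refine ⟨⟨x, hxN⟩, hG R hR hR1 ⟨T, hT⟩ (mem_centralizer_iff.mpr fun y hy => Subtype.ext ?_), rfl⟩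
  exact mem_centralizer_iff.mp hx _ ⟨y, hy, rfl⟩

theorem local_large {Q : Subgroup G} (hQp : IsPGroup p Q) (hQ1 : Q ≠ ⊥) (hQ : Cfsg.IsLarge Q) (T : Sylow p G)
    (R : Subgroup G) (hR : IsPGroup p R) (hR1 : R ≠ ⊥) (hT : (T : Subgroup G) ≤ normalizer (R : Set G)) :
    normalizer (R : Set G) ∈ Cfsg.charPSubgroups p G :=
  ⟨(core_ne_bot R hR hR1).1, (Cfsg.Lib.Large.parabolic_props hQp hQ1 hQ _ ⟨T, hT⟩ (core_ne_bot R hR hR1).1).2⟩

theorem weakClosure_sup {Q : Subgroup G} (hQp : IsPGroup p Q) (hQ1 : Q ≠ ⊥) (hQ : Cfsg.IsLarge Q) (T : Sylow p G)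
    (hQT : Q ≤ (T : Subgroup G)) (L C : Subgroup G) (hTL : (T : Subgroup G) ≤ L)
    (hLC : L ≤ normalizer (C : Set G)) (hCQ : C ≤ normalizer (Q : Set G)) :
    Cfsg.weakClosure Q (L ⊔ C) = Cfsg.weakClosure Q L := by
  refine le_antisymm ?_ (iSup_le fun g => le_iSup_of_le ⟨g, g.2.trans le_sup_left⟩ le_rfl)
  set K := L ⊔ C
  refine iSup_le fun g => ?_
  have hTK : (T : Subgroup G) ≤ K := hTL.trans le_sup_left
  obtain ⟨S, hS⟩ := ((hQp.map (MulAut.conj (g : G)).toMonoidHom).comap_subtype (K := K)).exists_le_sylow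
  obtain ⟨x, hx⟩ := MulAction.exists_smul_eq K (T.subtype hTK) S
  obtain ⟨c, hc, l, hl, hxcl⟩ := (Cfsg.Lib.Coprime.mem_sup_of_le_normalizer hLC).1 ((sup_comm L C).le x.2)
  have hgT : ((Q.map (MulAut.conj (g : G)).toMonoidHom).map (MulAut.conj (x : G)⁻¹).toMonoidHom) ≤
      (T : Subgroup G) := by
    rintro _ ⟨y, hy, rfl⟩
    have h1 : (⟨y, g.2 hy⟩ : K) ∈ ((x • T.subtype hTK : Sylow p K) : Subgroup K) := by rw [hx]; exact hS hy
    rw [Cfsg.Lib.Transfer.sylow_smul_coe] at h1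
    obtain ⟨z, hz, e⟩ := h1
    have e' : (x : G) * z * (x : G)⁻¹ = y := congrArg Subtype.val e
    show (x : G)⁻¹ * y * (x : G)⁻¹⁻¹ ∈ (T : Subgroup G)
    rw [← e', inv_inv, show (x : G)⁻¹ * ((x : G) * z * (x : G)⁻¹) * x = z by group]
    exact hz
  rw [Cfsg.Lib.Transfer.map_conj_map_conj] at hgT
  have heq : Q.map (MulAut.conj ((x : G)⁻¹ * g)).toMonoidHom = Q :=
    mem_normalizer_iff_map_conj_eq.1 (Cfsg.Lib.Large.eq_of_conj_le_sylow hQp hQ1 hQ T hQT _ hgT)
  have hg : Q.map (MulAut.conj (g : G)).toMonoidHom = Q.map (MulAut.conj (x : G)).toMonoidHom := by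
    conv_rhs => rw [← heq, Cfsg.Lib.Transfer.map_conj_map_conj, mul_inv_cancel_left]
  have hl' : ∃ c' ∈ C, (x : G) = l * c' := by
    refine ⟨l⁻¹ * c * l, ?_, by rw [← hxcl]; group⟩
    simpa using (mem_normalizer_iff.mp (hLC (inv_mem hl)) c).mp hc
  obtain ⟨c', hc', hxl⟩ := hl'
  rw [hg, hxl, ← Cfsg.Lib.Transfer.map_conj_map_conj, show Q.map (MulAut.conj c').toMonoidHom = Q from mem_normalizer_iff_map_conj_eq.1 (hCQ hc')]
  refine le_iSup_of_le ⟨l, ?_⟩ le_rfl
  rintro _ ⟨q, hq, rfl⟩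
  exact mul_mem (mul_mem hl (hTL (hQT hq))) (inv_mem hl)

theorem weakClosure_mono' {Q L M : Subgroup G} (h : L ≤ M) : Cfsg.weakClosure Q L ≤ Cfsg.weakClosure Q M :=
  iSup_le fun g => le_iSup_of_le ⟨g, g.2.trans h⟩ le_rfl

end Cfsg.Lib.BasicProperty
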