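import Cfsg.Agent.Components.Reduced.BasicProperty

/-!
Consequences of the asymmetry of `Y_M`.
-/

set_option linter.style.haveILetI false
set_option linter.unusedSectionVars false

namespace Cfsg.Lib.Asymmetric

open Subgroup
open scoped commutatorElement

variable {G : Type*} [Group G] [Finite G] {p : ℕ} [hp : Fact p.Prime]

/-- conjugate -/
abbrev cj (a : G) (H : Subgroup G) : Subgroup G := H.map (MulAut.conj a).toMonoidHom

theorem cj_cj (a b : G) (H : Subgroup G) : cj a (cj b H) = cj (a * b) H :=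
  Cfsg.Lib.Transfer.map_conj_map_conj H a b

theorem cj_eq {a : G} {H : Subgroup G} (h : a ∈ normalizer (H : Set G)) : cj a H = H :=
  mem_normalizer_iff_map_conj_eq.1 h

theorem cj_normalizer {a : G} {H Z : Subgroup G} (h : Z ≤ normalizer (H : Set G)) :
    cj a Z ≤ normalizer ((cj a H : Subgroup G) : Set G) :=
  (map_mono h).trans (le_normalizer_map _)

theorem commute_of_asym {Y : Subgroup G} (hasym : ¬ Cfsg.IsSymmetricIn Y) (g : G)
    (h1 : Y ≤ normalizer ((cj g Y : Subgroup G) : Set G)) (h2 : cj g Y ≤ normalizer (Y : Set G)) :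
    cj g Y ≤ centralizer (Y : Set G) := by
  have h3 : ⁅Y, cj g Y⁆ ≤ Y ⊓ cj g Y :=
    le_inf (le_normalizer_iff_commutator_le_left.mp h2) (le_normalizer_iff_commutator_le_right.mp h1)
  by_contra hne
  refine hasym ⟨g, fun hb => hne ?_, h3⟩
  rw [commutator_comm] at hb
  exact commutator_eq_bot_iff_le_centralizer.mp hb

/-- alternating words -/
def wd (N₁ X : Subgroup G) : ℕ → Set G
  | 0 => (N₁ : Set G)
  | n + 1 => {a | ∃ c ∈ wd N₁ X n, ∃ h ∈ normalizer (X : Set G), ∃ m ∈ N₁, a = c * h * m}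

theorem wd_left {N₁ X : Subgroup G} : ∀ n, ∀ a ∈ wd N₁ X n, ∀ m ∈ N₁, ∀ h ∈ normalizer (X : Set G),
    m * h * a ∈ wd N₁ X (n + 1)
  | 0, a, ha, m, hm, h, hh => ⟨m, hm, h, hh, a, ha, rfl⟩
  | n + 1, a, ha, m, hm, h, hh => by
    obtain ⟨c, hc, h', hh', m', hm', rfl⟩ := ha
    exact ⟨m * h * c, wd_left n c hc m hm h hh, h', hh', m', hm', by group⟩

theorem wd_inv {N₁ X : Subgroup G} : ∀ n, ∀ a ∈ wd N₁ X n, a⁻¹ ∈ wd N₁ X n
  | 0, a, ha => N₁.inv_mem ha
  | n + 1, a, ha => by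
    obtain ⟨c, hc, h, hh, m, hm, rfl⟩ := ha
    rw [show (c * h * m)⁻¹ = m⁻¹ * h⁻¹ * c⁻¹ by group]
    exact wd_left n _ (wd_inv n c hc) _ (inv_mem hm) _ (inv_mem hh)

theorem conj_le {Y P X : Subgroup G} (hasym : ¬ Cfsg.IsSymmetricIn Y) (hYP : Y ≤ P) (hPX : P ≤ X)
    (hXY : X ≤ normalizer (Y : Set G)) (hP : X ⊓ centralizer (Y : Set G) ≤ P)
    (hN : normalizer (P : Set G) ≤ normalizer (Y : Set G)) :
    ∀ n, ∀ a ∈ wd (normalizer (P : Set G)) X n, cj a Y ≤ P
  | 0, a, ha => (cj_eq (hN ha)).le.trans hYP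
  | k + 1, a, ha => by
    obtain ⟨c', hc', h', hh', m', hm', he⟩ := wd_inv _ _ ha
    obtain ⟨m0, hm0, h1, hh1, c, hc, rfl⟩ : ∃ m0 ∈ normalizer (P : Set G), ∃ h1 ∈ normalizer (X : Set G),
        ∃ c ∈ wd (normalizer (P : Set G)) X k, a = m0 * h1 * c :=
      ⟨m'⁻¹, inv_mem hm', h'⁻¹, inv_mem hh', c'⁻¹, wd_inv k _ hc', by rw [← inv_inv a, he]; group⟩
    rw [mul_assoc, ← cj_cj]
    refine (map_mono ?_).trans (cj_eq hm0).le
    have ihk := conj_le hasym hYP hPX hXY hP hN k c hc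
    have hX1 : cj h1 X = X := cj_eq hh1
    -- `c Y` normalises `h1⁻¹ Y`
    have e1 : Y ≤ normalizer ((cj (c⁻¹ * h1⁻¹) Y : Subgroup G) : Set G) := by
      have h3 : cj c Y ≤ normalizer ((cj h1⁻¹ Y : Subgroup G) : Set G) := by
        refine (ihk.trans hPX).trans ?_
        rw [← cj_eq (inv_mem hh1)]
        exact cj_normalizer hXY
      have h4 := cj_normalizer (a := c⁻¹) h3
      rwa [cj_cj, cj_cj, inv_mul_cancel, cj_eq (one_mem (normalizer (Y : Set G)))] at h4
    have e2 : cj (c⁻¹ * h1⁻¹) Y ≤ normalizer (Y : Set G) := by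
      cases k with
      | zero =>
        have hcY : c ∈ normalizer (Y : Set G) := hN hc
        have h8 := cj_normalizer (a := c⁻¹) (H := Y) (Z := cj h1⁻¹ Y)
          ((map_mono (hYP.trans hPX)).trans ((cj_eq (inv_mem hh1)).le.trans hXY))
        rwa [cj_cj, cj_eq (inv_mem hcY)] at h8
      | succ j =>
        obtain ⟨c₂, hc₂, h, hh, m, hm, rfl⟩ := hc
        have hu : c₂⁻¹ * h1⁻¹ ∈ wd (normalizer (P : Set G)) X (j + 1) :=
          ⟨c₂⁻¹, wd_inv j _ hc₂, h1⁻¹, inv_mem hh1, 1, one_mem _, by group⟩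
        have h5 : cj (c₂⁻¹ * h1⁻¹) Y ≤ P := conj_le hasym hYP hPX hXY hP hN (j + 1) _ hu
        rw [show (c₂ * h * m)⁻¹ * h1⁻¹ = m⁻¹ * (h⁻¹ * (c₂⁻¹ * h1⁻¹)) by group, ← cj_cj, ← cj_cj h⁻¹]
        have h8 := cj_normalizer (a := m⁻¹) (H := Y) (Z := cj h⁻¹ (cj (c₂⁻¹ * h1⁻¹) Y))
          ((map_mono (h5.trans hPX)).trans ((cj_eq (inv_mem hh)).le.trans hXY))
        rwa [cj_eq (inv_mem (hN hm))] at h8
    have e3 := commute_of_asym hasym _ e1 e2
    refine le_trans (le_inf ?_ ?_) hP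
    · rw [← cj_cj, ← hX1]
      exact map_mono (ihk.trans hPX)
    · rw [le_centralizer_iff]
      have e4 := map_mono (f := (MulAut.conj (h1 * c)).toMonoidHom) e3
      change cj (h1 * c) (cj (c⁻¹ * h1⁻¹) Y) ≤ _ at e4
      rw [cj_cj, show h1 * c * (c⁻¹ * h1⁻¹) = 1 by group, cj_eq (one_mem (normalizer (Y : Set G)))] at e4
      refine e4.trans ?_
      rintro _ ⟨z, hz, rfl⟩
      refine mem_centralizer_iff.mpr ?_
      rintro _ ⟨y, hy, rfl⟩
      rw [← map_mul, ← map_mul, mem_centralizer_iff.mp hz y hy]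

variable (S : Sylow p G) {Q : Subgroup G}

theorem le_dagger {M Z : Subgroup G} (hM : Cfsg.IsInFrakM p M) (hZ : Z ∈ Cfsg.charPSubgroups p G) (hMZ : M ≤ Z) :
    Z ≤ M ⊔ centralizer (Cfsg.largestPReducedOf p M : Set G) := by
  obtain ⟨R, ⟨hR, hZR⟩, hmax⟩ := WellFounded.has_min (wellFounded_gt (α := Subgroup G))
    {R | R ∈ Cfsg.charPSubgroups p G ∧ Z ≤ R} ⟨Z, hZ, le_rfl⟩
  rw [← hM.2.2.1 R ⟨hR, fun L hL hle => by_contra fun hne =>
    hmax L ⟨hL, hZR.trans hle⟩ (lt_of_le_of_ne hle (Ne.symm hne))⟩ (hMZ.trans hZR)]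
  exact hZR

set_option maxHeartbeats 800000 in
theorem main (hQp : IsPGroup p Q) (hQ1 : Q ≠ ⊥) (hQ : Cfsg.IsLarge Q) {M : Subgroup G}
    (hSM : (S : Subgroup G) ≤ M) (hM : Cfsg.IsInFrakM p M)
    (hasym : ¬ Cfsg.IsSymmetricIn (Cfsg.largestPReducedOf p M)) :
    (∀ L : Subgroup G, IsPGroup p ↥L → Cfsg.pCoreOf p M ≤ L →
      L ≤ normalizer (Cfsg.pCoreOf p M : Set G) ∧
      normalizer (L : Set G) ≤ normalizer (Cfsg.pCoreOf p M : Set G)) ∧
    normalizer (Cfsg.pCoreOf p M : Set G) ≤ M ⊔ centralizer (Cfsg.largestPReducedOf p M : Set G) ∧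
    Cfsg.IsWeaklyClosedSubgroup p (Cfsg.pCoreOf p M) := by
  set Y := Cfsg.largestPReducedOf p M
  set P := Cfsg.pCoreOf p M
  set C := centralizer (Y : Set G)
  have hMY : M ≤ normalizer (Y : Set G) := Cfsg.Lib.Reduced.normalizer_largestOf M
  have hdag : M ⊔ C ≤ normalizer (Y : Set G) := sup_le hMY (centralizer_le_normalizer _)
  have hMP : M ≤ normalizer (P : Set G) := le_normalizer.trans (Cfsg.Lib.Large.normalizer_pCoreOf_le M)
  have hYP : Y ≤ P := Cfsg.Lib.Reduced.largestOf_le_pCoreOf M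
  have hPS : P ≤ (S : Subgroup G) := Cfsg.Lib.Reduced.pCoreOf_le_sylow S hSM
  have hPC : P ≤ C := Cfsg.Lib.Reduced.pCoreOf_le_centralizer M
  have hY1 : Y ≠ ⊥ := Cfsg.Lib.BasicProperty.omega_ne_bot S hSM hM.1
  have hPp : IsPGroup p P := (Cfsg.Lib.Components.isPGroup_pCore p).map _
  have hloc := Cfsg.Lib.BasicProperty.local_large hQp hQ1 hQ S
  have hP1 : P ≠ ⊥ := fun h => hY1 (le_bot_iff.mp (hYP.trans h.le))
  have hNP : normalizer (P : Set G) ≤ M ⊔ C := le_dagger hM (hloc P hPp hP1 (hSM.trans hMP)) hMP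
  -- `P` is a Sylow subgroup of `C`
  obtain ⟨⟨P₀, hP₀⟩, -, -⟩ := Cfsg.Agent.S2821.result S M hSM (Cfsg.Lib.BasicProperty.charP_of_mem hM.1) _ rfl
  have hSC : (S : Subgroup G) ⊓ C ≤ P := by
    set D := M ⊓ C
    have hT0 : ((S : Subgroup G) ⊓ C).subgroupOf D ≤ Cfsg.pCore p D := by
      obtain ⟨X, hX⟩ := (S.2.to_le (inf_le_left : (S : Subgroup G) ⊓ C ≤ _)).comap_subtype (K := D) |>.exists_le_sylow
      haveI := hM.2.2.2.2.1 X
      exact hX.trans (Cfsg.Lib.Components.le_pCore X.2)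
    intro x hx
    have hxD : x ∈ D := mem_inf.mpr ⟨hSM (mem_inf.mp hx).1, (mem_inf.mp hx).2⟩
    exact Cfsg.Lib.Large.le_pCoreOf ((map_subtype_le _).trans inf_le_left)
      ((Cfsg.Lib.Components.isPGroup_pCore p).map _)
      ((Cfsg.Lib.Coprime.le_normalizer_inf le_normalizer
        (hMY.trans (Cfsg.Lib.Large.normalizer_centralizer_le Y))).trans (Cfsg.Lib.Large.normalizer_pCoreOf_le D))
      ⟨⟨x, hxD⟩, hT0 hx, rfl⟩
  have hPmax : ∀ R : Subgroup G, IsPGroup p R → P ≤ R → R ⊓ C ≤ P := by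
    intro R hR hPR r hr
    have h := P₀.3 ((hR.to_le (inf_le_left : R ⊓ C ≤ R)).comap_subtype (K := C))
      (hP₀.le.trans (comap_mono ((le_inf (le_refl _) inf_le_right).trans (inf_le_inf_right _ (hSC.trans hPR)))))
    exact hSC (hP₀.le (h.le (show (⟨r, (mem_inf.mp hr).2⟩ : C) ∈ (R ⊓ C).comap C.subtype from hr)))
  have hkey : ∀ X : Subgroup G, IsPGroup p X → P ≤ X → X ≤ normalizer (Y : Set G) →
      normalizer (X : Set G) ≤ normalizer (P : Set G) := by
    intro X hX hPX hXY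
    set K := normalizer (P : Set G) ⊔ normalizer (X : Set G) with hK
    have hwd : ∀ a ∈ K, ∃ n, a ∈ wd (normalizer (P : Set G)) X n := by
      intro a ha
      rw [hK, sup_eq_closure] at ha
      suffices h : ∀ b, (∃ n, b ∈ wd (normalizer (P : Set G)) X n) →
          (∃ n, b * a ∈ wd (normalizer (P : Set G)) X n) ∧ ∃ n, b * a⁻¹ ∈ wd (normalizer (P : Set G)) X n by
        simpa using (h 1 ⟨0, one_mem _⟩).1
      induction ha using closure_induction with
      | mem x hx =>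
        have key : ∀ y, (y ∈ normalizer (P : Set G) ∨ y ∈ normalizer (X : Set G)) → ∀ b,
            (∃ n, b ∈ wd (normalizer (P : Set G)) X n) → ∃ n, b * y ∈ wd (normalizer (P : Set G)) X n := by
          rintro y hy b ⟨n, hn⟩
          rcases hy with hy | hy
          · cases n with
            | zero => exact ⟨0, mul_mem hn hy⟩
            | succ n =>
              obtain ⟨c, hc, h, hh, m, hm, rfl⟩ := hn
              exact ⟨n + 1, c, hc, h, hh, m * y, mul_mem hm hy, by group⟩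
          · exact ⟨n + 1, b, hn, y, hy, 1, one_mem _, (mul_one _).symm⟩
        exact fun b hb => ⟨key x hx b hb, key x⁻¹ (hx.imp inv_mem inv_mem) b hb⟩
      | one => exact fun b hb => by simpa using hb
      | mul u v _ _ ihu ihv =>
        refine fun b hb => ⟨?_, ?_⟩
        · rw [← mul_assoc]; exact (ihv _ (ihu b hb).1).1
        · rw [mul_inv_rev, ← mul_assoc]; exact (ihu _ (ihv b hb).2).2
      | inv u _ ihu => exact fun b hb => ⟨(ihu b hb).2, by rw [inv_inv]; exact (ihu b hb).1⟩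
    set W := ⨆ a : K, cj (a : G) Y
    have hWP : W ≤ P := iSup_le fun a => by
      obtain ⟨n, hn⟩ := hwd a a.2
      exact conj_le hasym hYP hPX hXY (hPmax X hX hPX) (hNP.trans hdag) n a hn
    have hW1 : W ≠ ⊥ := fun h => hY1 (le_bot_iff.mp (h ▸ le_iSup_of_le (1 : K)
      (by rw [OneMemClass.coe_one, cj_eq (one_mem (normalizer (Y : Set G)))])))
    have hKW : K ≤ normalizer (W : Set G) := by
      intro k hk
      rw [mem_normalizer_iff_map_conj_eq]
      refine Subgroup.eq_of_le_of_card_ge ?_ (Cfsg.Lib.Transfer.card_map_conj W k).ge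
      rw [Subgroup.map_iSup]
      refine iSup_le fun a => ?_
      have h := le_iSup (fun b : K => cj (b : G) Y) (⟨k, hk⟩ * a)
      show cj k (cj (a : G) Y) ≤ _
      rw [cj_cj]
      exact h
    have hMK : M ≤ K := hMP.trans le_sup_left
    have hKY : K ≤ normalizer (Y : Set G) :=
      hKW.trans ((le_dagger hM (hloc W (hPp.to_le hWP) hW1 ((hSM.trans hMK).trans hKW)) (hMK.trans hKW)).trans hdag)
    intro n hn
    rw [mem_normalizer_iff_map_conj_eq]
    refine Subgroup.eq_of_le_of_card_ge ?_ (Cfsg.Lib.Transfer.card_map_conj P n).ge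
    refine le_trans ?_ (hPmax X hX hPX)
    refine (map_mono (le_inf hPX hPC)).trans ((Subgroup.map_inf_le _ _ _).trans (inf_le_inf (cj_eq hn).le ?_))
    exact (cj_eq (Cfsg.Lib.Large.normalizer_centralizer_le Y (hKY (mem_sup_right hn)))).le
  have hsub : ∀ X : Subgroup G, IsPGroup p X → P ≤ X → X ≤ normalizer (P : Set G) := by
    intro X hX hPX
    by_contra hne
    haveI : Group.IsNilpotent X := hX.isNilpotent
    have hlt : (X ⊓ normalizer (P : Set G)).subgroupOf X < ⊤ :=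
      lt_top_iff_ne_top.mpr fun h => hne ((subgroupOf_eq_top.mp h).trans inf_le_right)
    obtain ⟨x, hx, hxn⟩ := SetLike.exists_of_lt (Group.normalizerCondition_of_isNilpotent _ hlt)
    refine hxn (mem_inf.mpr ⟨x.2, hkey _ (hX.to_le inf_le_left) (le_inf hPX le_normalizer)
      (inf_le_right.trans (hNP.trans hdag)) ?_⟩)
    rw [mem_normalizer_iff] at hx ⊢
    intro z
    constructor
    · intro hz
      exact (hx ⟨z, (mem_inf.mp hz).1⟩).mp hz
    · intro hz
      have hzX : z ∈ X := by simpa [mul_assoc] using mul_mem (mul_mem (inv_mem x.2) (mem_inf.mp hz).1) x.2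
      exact (hx ⟨z, hzX⟩).mpr hz
  have hnorm : ∀ L : Subgroup G, IsPGroup p L → P ≤ L → normalizer (L : Set G) ≤ normalizer (P : Set G) :=
    fun L hL hPL => hkey L hL hPL ((hsub L hL hPL).trans (hNP.trans hdag))
  refine ⟨fun L hL hPL => ⟨hsub L hL hPL, hnorm L hL hPL⟩, hNP, S, hPS, fun g hg => ?_⟩
  set P' := cj g P with hP'
  have h1 : (S : Subgroup G) ≤ normalizer (P' : Set G) := by
    have h := hsub (cj g⁻¹ S) (S.2.map _) (by
      have h := map_mono (f := (MulAut.conj g⁻¹).toMonoidHom) hg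
      rwa [Cfsg.Lib.Transfer.map_conj_map_conj, inv_mul_cancel, Cfsg.Lib.Transfer.map_conj_one] at h)
    have h' := cj_normalizer (a := g) h
    refine le_trans ?_ (h'.trans (le_refl _))
    rw [cj_cj, mul_inv_cancel, cj, Cfsg.Lib.Transfer.map_conj_one]
  have h2 : ((g • S : Sylow p G) : Subgroup G) ≤ normalizer (P' : Set G) := by
    rw [Cfsg.Lib.Transfer.sylow_smul_coe]
    exact cj_normalizer (hsub _ S.2 hPS)
  obtain ⟨n, hn⟩ := MulAction.exists_smul_eq (normalizer (P' : Set G)) (S.subtype h1) ((g • S).subtype h2)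
  have h3 : (n : G)⁻¹ * g ∈ normalizer ((S : Subgroup G) : Set G) := by
    rw [mem_normalizer_iff_map_conj_eq]
    show cj _ _ = _
    rw [← cj_cj, cj, cj, ← Cfsg.Lib.Transfer.sylow_smul_coe g S]
    refine Subgroup.eq_of_le_of_card_ge ?_ (by rw [Cfsg.Lib.Transfer.card_map_conj, Cfsg.Lib.Transfer.sylow_smul_coe, Cfsg.Lib.Transfer.card_map_conj])
    rintro _ ⟨y, hy, rfl⟩
    have h4 : (⟨y, h2 hy⟩ : normalizer (P' : Set G)) ∈ ((n • S.subtype h1 : Sylow p _) : Subgroup _) := by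
      rw [hn]; exact hy
    rw [Cfsg.Lib.Transfer.sylow_smul_coe] at h4
    obtain ⟨z, hz, e⟩ := h4
    have e' : (n : G) * z * (n : G)⁻¹ = y := congrArg Subtype.val e
    show (n : G)⁻¹ * y * (n : G)⁻¹⁻¹ ∈ (S : Subgroup G)
    rw [← e', inv_inv, show (n : G)⁻¹ * ((n : G) * z * (n : G)⁻¹) * n = z by group]
    exact hz
  have h5 := cj_eq (hnorm _ S.2 hPS h3)
  have h6 : cj (n : G) P = P' := by
    conv_lhs => rw [← h5, cj_cj, mul_inv_cancel_left]
  have h7 : P' = P := by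
    refine map_injective (f := (MulAut.conj (n : G)).toMonoidHom) (MulAut.conj (n : G)).injective ?_
    exact (cj_eq n.2).trans h6.symm
  exact h7

end Cfsg.Lib.Asymmetric
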