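import Cfsg.Agent.Components.Reduced.Asymmetric
import Cfsg.Agent.Components.GenFitting

/-!
`Y_M` inside `Y_H` when `H` contains the generalized Fitting preimage.
-/

set_option linter.style.haveILetI false
set_option linter.unusedSectionVars false

namespace Cfsg.Lib.FittingClosure

open Subgroup Cfsg.Lib.Asymmetric
open scoped commutatorElement

variable {G : Type*} [Group G] [Finite G] {p : ℕ} [hp : Fact p.Prime]

/-- no nontrivial `p`-subgroup is normalised by the generalized Fitting subgroup -/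
theorem eq_bot_of_normalized {Γ : Type*} [Group Γ] [Finite Γ] (hO : Cfsg.pCore p Γ = ⊥) {U : Subgroup Γ}
    (hU : IsPGroup p U) (hn : Cfsg.generalizedFittingSubgroup Γ ≤ normalizer (U : Set Γ))
    [hF : (Cfsg.generalizedFittingSubgroup Γ).Normal] : U = ⊥ := by
  set F := Cfsg.generalizedFittingSubgroup Γ
  have h1 : U ⊓ F ≤ Cfsg.pCoreOf p F :=
    Cfsg.Lib.Large.le_pCoreOf inf_le_right (hU.to_le inf_le_left) (Cfsg.Lib.Coprime.le_normalizer_inf hn le_normalizer)
  have h2 : Cfsg.pCoreOf p F ≤ Cfsg.pCoreOf p (⊤ : Subgroup Γ) :=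
    Cfsg.Lib.Large.le_pCoreOf le_top ((Cfsg.Lib.Components.isPGroup_pCore p).map _)
      ((normalizer_eq_top_iff.2 hF).ge.trans (Cfsg.Lib.Large.normalizer_pCoreOf_le F))
  have h3 : Cfsg.pCoreOf p (⊤ : Subgroup Γ) ≤ Cfsg.pCore p Γ := by
    haveI : (Cfsg.pCoreOf p (⊤ : Subgroup Γ)).Normal := normalizer_eq_top_iff.1 (top_le_iff.1
      (le_normalizer.trans (Cfsg.Lib.Large.normalizer_pCoreOf_le ⊤)))
    exact Cfsg.Lib.Components.le_pCore ((Cfsg.Lib.Components.isPGroup_pCore p).map _)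
  have h4 : U ⊓ F = ⊥ := le_bot_iff.mp ((h1.trans (h2.trans h3)).trans hO.le)
  have h5 : ⁅U, F⁆ ≤ U ⊓ F := le_inf (le_normalizer_iff_commutator_le_left.mp hn)
    (le_normalizer_iff_commutator_le_right.mp ((le_top : U ≤ ⊤).trans (normalizer_eq_top_iff.2 hF).ge))
  have h6 : U ≤ centralizer (F : Set Γ) :=
    commutator_eq_bot_iff_le_centralizer.mp (le_bot_iff.mp (h5.trans h4.le))
  rw [← h4, eq_comm, inf_eq_left]
  exact h6.trans Cfsg.Lib.Components.centralizer_genFitting_le

theorem main (S : Sylow p G) {Q M : Subgroup G} (hQp : IsPGroup p Q) (hQ1 : Q ≠ ⊥) (hQ : Cfsg.IsLarge Q)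
    (hSM : (S : Subgroup G) ≤ M) (hM : Cfsg.IsInFrakM p M)
    (hasym : ¬ Cfsg.IsSymmetricIn (Cfsg.largestPReducedOf p M))
    [hn : ((centralizer (Cfsg.largestPReducedOf p M : Set G)).subgroupOf
      (M ⊔ centralizer (Cfsg.largestPReducedOf p M : Set G))).Normal]
    (F : Subgroup G) (hF : F = ((Cfsg.generalizedFittingSubgroup (↥(M ⊔ centralizer (Cfsg.largestPReducedOf p M : Set G)) ⧸
      (centralizer (Cfsg.largestPReducedOf p M : Set G)).subgroupOf
        (M ⊔ centralizer (Cfsg.largestPReducedOf p M : Set G)))).comap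
          (QuotientGroup.mk' ((centralizer (Cfsg.largestPReducedOf p M : Set G)).subgroupOf
            (M ⊔ centralizer (Cfsg.largestPReducedOf p M : Set G))))).map
        (M ⊔ centralizer (Cfsg.largestPReducedOf p M : Set G)).subtype)
    (H : Subgroup G) (hFH : F ≤ H) (hH : centralizer (Cfsg.pCore p H : Set H) ≤ Cfsg.pCore p H) :
    Cfsg.largestPReducedOf p M ≤ Cfsg.largestPReducedOf p H := by
  obtain ⟨h1, hNP, -⟩ := Cfsg.Lib.Asymmetric.main S hQp hQ1 hQ hSM hM hasym
  have hYdag := hM.2.2.2.1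
  have hlarge := Cfsg.Lib.Reduced.largestOf_elem (p := p) M
  set Y := Cfsg.largestPReducedOf p M with hY
  set C := centralizer (Y : Set G) with hC
  set D := M ⊔ C with hD
  set C' := C.subgroupOf D with hC'
  set π := QuotientGroup.mk' C' with hπ
  set Fb := Cfsg.generalizedFittingSubgroup (↥D ⧸ C') with hFb
  haveI hFbn : Fb.Normal := inferInstance
  -- `M†/C(Y)` has trivial core
  have hcore : Cfsg.pCore p (↥D ⧸ C') = ⊥ := by
    haveI : (Cfsg.pCore p (↥D ⧸ C')).Normal := Cfsg.Lib.Components.pCore_normal' p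
    have hYD : Y ≤ D := (Cfsg.Lib.Reduced.largestOf_le M).trans le_sup_left
    have hYeq : Cfsg.largestPReduced p D = Y.subgroupOf D := by
      rw [hYdag]
      exact (comap_map_eq_self_of_injective D.subtype_injective _).symm
    have hred := ((Cfsg.Lib.Reduced.isReduced_iff _).1 (Cfsg.Lib.Reduced.largest_isReduced (G := ↥D) (p := p))).2.2
    rw [hYeq] at hred
    have hcen : ∀ x : D, x ∈ centralizer ((Y.subgroupOf D : Subgroup D) : Set D) ↔ x ∈ C' := fun x =>
      Cfsg.Lib.Reduced.subgroupOf_centralizer hYD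
    set N := (Cfsg.pCore p (↥D ⧸ C')).comap π
    have hN : N ≤ C' := fun x hx => (hcen x).1 (hred N (Subgroup.Normal.comap inferInstance π).isSubnormal
      (fun y hy => by
        obtain ⟨a, ha⟩ := Cfsg.Lib.Components.isPGroup_pCore (G := ↥D ⧸ C') p ⟨π y, hy⟩
        exact ⟨a, (hcen _).2 ((QuotientGroup.eq_one_iff _).1 (congrArg Subtype.val ha))⟩) hx)
    rw [eq_bot_iff]
    intro y hy
    obtain ⟨x, rfl⟩ := QuotientGroup.mk'_surjective C' y
    exact (QuotientGroup.eq_one_iff x).2 (hN hy)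
  -- `p`-groups modulo `C` normalised by `F` lie in `C`
  have key : ∀ U : Subgroup G, U ≤ D → (∀ u ∈ U, ∃ a : ℕ, u ^ p ^ a ∈ C) →
      F ≤ normalizer (U : Set G) → U ≤ C := by
    intro U hUD hUp hUn u hu
    have hb := eq_bot_of_normalized hcore (U := (U.subgroupOf D).map π) (by
      rintro ⟨_, x, hx, rfl⟩
      obtain ⟨a, ha⟩ := hUp x hx
      refine ⟨a, Subtype.ext ?_⟩
      show π x ^ p ^ a = 1
      rw [← map_pow]
      exact (QuotientGroup.eq_one_iff _).2 ha) (by
      intro z hz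
      obtain ⟨x, rfl⟩ := QuotientGroup.mk'_surjective C' z
      have hxF : (x : G) ∈ F := hF.symm ▸ ⟨x, hz, rfl⟩
      refine le_normalizer_map π ⟨x, ?_, rfl⟩
      refine Cfsg.Lib.Large.mem_normalizer_of_le _ fun y hy => ?_
      exact Cfsg.Lib.Large.conj_mem' U (hUn hxF) hy)
    have : π ⟨u, hUD hu⟩ ∈ (U.subgroupOf D).map π := mem_map_of_mem π hu
    rw [hb, mem_bot] at this
    exact (QuotientGroup.eq_one_iff (N := C') (⟨u, hUD hu⟩ : D)).1 this
  set P := Cfsg.pCoreOf p M
  have hPp : IsPGroup p P := (Cfsg.Lib.Components.isPGroup_pCore p).map _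
  have hPC : P ≤ C := Cfsg.Lib.Reduced.pCoreOf_le_centralizer M
  have hYP : Y ≤ P := Cfsg.Lib.Reduced.largestOf_le_pCoreOf M
  have hCF : C ≤ F := by
    intro x hx
    rw [hF]
    refine ⟨⟨x, mem_sup_right hx⟩, ?_, rfl⟩
    show π _ ∈ Fb
    rw [show π ⟨x, mem_sup_right hx⟩ = 1 from (QuotientGroup.eq_one_iff _).2 hx]
    exact one_mem _
  have hPH : P ≤ H := hPC.trans (hCF.trans hFH)
  have hNPD : ∀ U : Subgroup G, IsPGroup p U → P ≤ U → U ≤ D := fun U hU hPU => (h1 U hU hPU).1.trans hNP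
  set O := Cfsg.pCoreOf p H with hO
  have hHO : H ≤ normalizer (O : Set G) := le_normalizer.trans (Cfsg.Lib.Large.normalizer_pCoreOf_le H)
  have hOp : IsPGroup p O := (Cfsg.Lib.Components.isPGroup_pCore p).map _
  have hOC : O ≤ C := key O (le_sup_left.trans (hNPD _ (hOp.to_sup_of_normal_left' hPp (hPH.trans hHO)) le_sup_right))
    (fun u hu => by
      obtain ⟨a, ha⟩ := hOp ⟨u, hu⟩
      exact ⟨a, by rw [show u ^ p ^ a = 1 from congrArg Subtype.val ha]; exact one_mem _⟩) (hFH.trans hHO)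
  have hYH : Y ≤ H := hYP.trans hPH
  have hYO : Y.subgroupOf H ≤ centralizer (Cfsg.pCore p H : Set H) := fun y hy =>
    mem_centralizer_iff.mpr fun z hz => Subtype.ext
      (mem_centralizer_iff.mp (hOC ⟨z, hz, rfl⟩) _ hy).symm
  set V := normalClosure ((Y.subgroupOf H : Subgroup H) : Set H)
  haveI : (Cfsg.pCore p H).Normal := Cfsg.Lib.Components.pCore_normal' p
  have hVc : V ≤ centralizer (Cfsg.pCore p H : Set H) := normalClosure_le_normal hYO
  have hVO : V ≤ Cfsg.pCore p H := hVc.trans hH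
  have hVab : ∀ a ∈ V, ∀ b ∈ V, a * b = b * a := fun a ha b hb => (mem_centralizer_iff.mp (hVc hb) a (hVO ha))
  have hVel : Cfsg.IsElementaryAbelian p V := by
    refine ⟨⟨⟨fun a b => Subtype.ext (hVab a a.2 b b.2)⟩⟩, fun a ha => ?_⟩
    induction ha using closure_induction with
    | mem x hx =>
      obtain ⟨y, hy, hxy⟩ := Group.mem_conjugatesOfSet_iff.1 hx
      obtain ⟨c, rfl⟩ := isConj_iff.1 hxy
      rw [conj_pow, show y ^ p = 1 from Subtype.ext (hlarge.2 (y : G) hy)]
      group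
    | one => exact one_pow p
    | mul a b ha hb iha ihb => rw [Commute.mul_pow (hVab a ha b hb), iha, ihb, one_mul]
    | inv a ha iha => rw [inv_pow, iha, inv_one]
  have hred : Cfsg.IsPReducedNormal p V := by
    refine Cfsg.Lib.Reduced.isReduced_of_normal V normalClosure_normal hVel fun N hN hmod => ?_
    haveI := hN
    have hVCY : centralizer (V : Set H) ≤ C.subgroupOf H := fun x hx => mem_centralizer_iff.mpr fun y hy =>
      congrArg Subtype.val (mem_centralizer_iff.mp hx ⟨y, hYH hy⟩ (subset_normalClosure hy))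
    obtain ⟨T, hT⟩ := (hPp.comap_subtype (K := H)).exists_le_sylow
    have hTD : (T : Subgroup H).map H.subtype ≤ D :=
      hNPD _ (T.2.map _) fun q hq => ⟨⟨q, hPH hq⟩, hT hq, rfl⟩
    haveI : (centralizer (V : Set H)).Normal := inferInstance
    have hsplit := Cfsg.Lib.Reduced.le_sup_inf_sylow (p := p) N (centralizer (V : Set H)) hmod T
    have hND : N.map H.subtype ≤ D := by
      refine (map_mono hsplit).trans ?_
      rw [Subgroup.map_sup]
      exact sup_le ((map_mono hVCY).trans ((map_subgroupOf_eq_of_le (hCF.trans hFH)).le.trans le_sup_right))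
        ((map_mono inf_le_left).trans hTD)
    have hNC : N.map H.subtype ≤ C := by
      refine key _ hND ?_ ?_
      · rintro _ ⟨x, hx, rfl⟩
        obtain ⟨a, ha⟩ := hmod x hx
        exact ⟨a, by rw [← map_pow]; exact hVCY ha⟩
      · intro f hf
        refine Cfsg.Lib.Large.mem_normalizer_of_le _ ?_
        rintro _ ⟨n, hn', rfl⟩
        exact ⟨⟨f, hFH hf⟩ * n * ⟨f, hFH hf⟩⁻¹, hN.conj_mem n hn' _, rfl⟩
    have h2 : V ≤ centralizer (N : Set H) := normalClosure_le_normal fun y hy => mem_centralizer_iff.mpr fun n hn' =>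
      Subtype.ext (mem_centralizer_iff.mp (hNC ⟨n, hn', rfl⟩) _ hy).symm
    exact le_centralizer_iff.mp h2
  intro y hy
  exact ⟨⟨y, hYH hy⟩, Cfsg.Lib.Reduced.le_largest hred (subset_normalClosure hy), rfl⟩

end Cfsg.Lib.FittingClosure
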