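import Cfsg.Agent.Components.Reduced.Asymmetric
import Cfsg.Agent.Components.Misc.SmallOrder

/-!
Existence of members of `ℌ(O_p(M))`.
-/

set_option linter.style.haveILetI false
set_option linter.unusedSectionVars false

namespace Cfsg.Lib.FrakH

open Subgroup Cfsg.Lib.Asymmetric
open scoped commutatorElement

variable {G : Type*} [Group G] [Finite G] {p : ℕ} [hp : Fact p.Prime]

theorem commute_of_coprime {D : Subgroup G} (hD : IsPGroup p D) {x z : G} (hx : (orderOf x).Coprime p)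
    (hfix : ∀ d ∈ D, x * d = d * x) (hc : ⁅x, z⁆ ∈ D) : x * z = z * x := by
  obtain ⟨k, hk⟩ := hD ⟨_, hc⟩
  exact mul_inv_eq_iff_eq_mul.1 (Cfsg.Lib.SmallOrder.fixed_of_shift (g := x) (z := z) (t := ⁅x, z⁆) (by group)
    (mul_inv_eq_iff_eq_mul.2 (hfix _ hc))
    ((hx.pow_right k).coprime_dvd_right (orderOf_dvd_of_pow_eq_one (congrArg Subtype.val hk))))

theorem subgroup_charP {P R H X : Subgroup G} (hPp : IsPGroup p P) (hPC : centralizer (P : Set G) ≤ P)
    (hR : R = Cfsg.pCoreOf p H) (hH : centralizer (Cfsg.pCore p H : Set H) ≤ Cfsg.pCore p H)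
    (hPX : P ≤ X) (hXH : X ≤ H) (hRP : R ≤ normalizer (P : Set G)) :
    centralizer (Cfsg.pCore p X : Set X) ≤ Cfsg.pCore p X := by
  have hRp : IsPGroup p R := hR ▸ (Cfsg.Lib.Components.isPGroup_pCore p).map _
  have hXR : X ≤ normalizer (R : Set G) :=
    hR ▸ hXH.trans (le_normalizer.trans (Cfsg.Lib.Large.normalizer_pCoreOf_le H))
  set D := R ⊓ X
  set O := Cfsg.pCoreOf p X with hO
  have hXO : X ≤ normalizer (O : Set G) := le_normalizer.trans (Cfsg.Lib.Large.normalizer_pCoreOf_le X)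
  have hOp : IsPGroup p O := (Cfsg.Lib.Components.isPGroup_pCore p).map _
  have hDO : D ≤ O := Cfsg.Lib.Large.le_pCoreOf inf_le_right (hRp.to_le inf_le_left)
    (Cfsg.Lib.Coprime.le_normalizer_inf hXR le_normalizer)
  set C0 := X ⊓ centralizer (O : Set G)
  have hXC0 : X ≤ normalizer (C0 : Set G) := Cfsg.Lib.Coprime.le_normalizer_inf le_normalizer
    (hXO.trans (Cfsg.Lib.Large.normalizer_centralizer_le O))
  set W := ⨆ a : X, cj (a : G) P
  have hPW : P ≤ W := le_iSup_of_le (1 : X) (by rw [OneMemClass.coe_one, cj_eq (one_mem (normalizer (P : Set G)))])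
  have hWX : W ≤ X := iSup_le fun a => (map_mono hPX).trans (cj_eq (le_normalizer a.2)).le
  have hXW : X ≤ normalizer (W : Set G) := by
    intro k hk
    rw [mem_normalizer_iff_map_conj_eq]
    refine Subgroup.eq_of_le_of_card_ge ?_ (Cfsg.Lib.Transfer.card_map_conj W k).ge
    rw [Subgroup.map_iSup]
    refine iSup_le fun a => ?_
    have h := le_iSup (fun b : X => cj (b : G) P) (⟨k, hk⟩ * a)
    show cj k (cj (a : G) P) ≤ _
    rw [cj_cj]
    exact h
  have hRW : R ≤ normalizer (W : Set G) := by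
    intro r hr
    rw [mem_normalizer_iff_map_conj_eq]
    refine Subgroup.eq_of_le_of_card_ge ?_ (Cfsg.Lib.Transfer.card_map_conj W r).ge
    rw [Subgroup.map_iSup]
    refine iSup_le fun a => le_trans (le_of_eq ?_) (le_iSup (fun b : X => cj (b : G) P) a)
    have hr' : (a : G)⁻¹ * r * a ∈ R := by
      simpa using (mem_normalizer_iff.mp (hXR (inv_mem a.2)) r).mp hr
    show cj r (cj (a : G) P) = cj (a : G) P
    conv_rhs => rw [← cj_eq (hRP hr'), cj_cj, show (a : G) * ((a : G)⁻¹ * r * a) = r * a by group]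
    rw [cj_cj]
  have hRWD : ⁅R, W⁆ ≤ D := (le_inf (le_normalizer_iff_commutator_le_left.mp (hWX.trans hXR))
    ((le_normalizer_iff_commutator_le_right.mp hRW).trans hWX))
  -- `W ⊓ C0` is a normal `p`-subgroup of `X`
  have hWC : IsPGroup p ↥(W ⊓ C0) := by
    refine Cfsg.Lib.Easy.isPGroup_of_coprime_trivial _ fun u hu huc => ?_
    obtain ⟨huW, huC⟩ := mem_inf.mp hu
    have hfix : ∀ d ∈ D, u * d = d * u := fun d hd =>
      (mem_centralizer_iff.mp (mem_inf.mp huC).2 d (hDO hd)).symm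
    have huR : u ∈ centralizer (R : Set G) := mem_centralizer_iff.mpr fun r hr => by
      refine (commute_of_coprime (hRp.to_le inf_le_left) huc hfix ?_).symm
      rw [← commutatorElement_inv]
      exact inv_mem (hRWD (commutator_mem_commutator hr huW))
    have huH : u ∈ H := hXH (hWX huW)
    have huP : u ∈ R := by
      rw [hR]
      refine ⟨⟨u, huH⟩, hH (mem_centralizer_iff.mpr fun y hy => Subtype.ext ?_), rfl⟩
      exact mem_centralizer_iff.mp huR _ (hR ▸ ⟨y, hy, rfl⟩)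
    obtain ⟨k, hk⟩ := hRp ⟨u, huP⟩
    exact orderOf_eq_one_iff.mp (Nat.eq_one_of_dvd_coprimes (huc.pow_right k) dvd_rfl
      (orderOf_dvd_of_pow_eq_one (congrArg Subtype.val hk)))
  have hWCO : W ⊓ C0 ≤ O := Cfsg.Lib.Large.le_pCoreOf (inf_le_left.trans hWX) hWC
    (Cfsg.Lib.Coprime.le_normalizer_inf hXW hXC0)
  have hC0 : IsPGroup p C0 := by
    refine Cfsg.Lib.Easy.isPGroup_of_coprime_trivial _ fun u hu huc => ?_
    have huP : u ∈ centralizer (P : Set G) := mem_centralizer_iff.mpr fun q hq => by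
      refine (commute_of_coprime (D := W ⊓ C0) hWC huc (fun d hd => ?_) ?_).symm
      · exact (mem_centralizer_iff.mp (mem_inf.mp hu).2 d (hWCO hd)).symm
      · exact mem_inf.mpr ⟨(le_normalizer_iff_commutator_le_right.mp (inf_le_left.trans hXW))
          (commutator_mem_commutator hu (hPW hq)),
          (le_normalizer_iff_commutator_le_left.mp (hPX.trans hXC0)) (commutator_mem_commutator hu hq)⟩
    obtain ⟨k, hk⟩ := hPp ⟨u, hPC huP⟩
    exact orderOf_eq_one_iff.mp (Nat.eq_one_of_dvd_coprimes (huc.pow_right k) dvd_rfl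
      (orderOf_dvd_of_pow_eq_one (congrArg Subtype.val hk)))
  have hC0O : C0 ≤ O := Cfsg.Lib.Large.le_pCoreOf inf_le_left hC0 hXC0
  intro x hx
  refine (mem_map_iff_mem X.subtype_injective).mp (hC0O (mem_inf.mpr ⟨x.2, mem_centralizer_iff.mpr ?_⟩))
  rintro _ ⟨y, hy, rfl⟩
  exact congrArg Subtype.val (mem_centralizer_iff.mp hx y hy)

theorem exists_frakH (S : Sylow p G) {Q : Subgroup G} (hQp : IsPGroup p Q) (hQ1 : Q ≠ ⊥) (hQ : Cfsg.IsLarge Q)
    {M : Subgroup G} (hSM : (S : Subgroup G) ≤ M) (hM : Cfsg.IsInFrakM p M)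
    (htall : Cfsg.IsCharPTall p (Cfsg.largestPReducedOf p M))
    (hasym : ¬ Cfsg.IsSymmetricIn (Cfsg.largestPReducedOf p M)) : ∃ H, Cfsg.IsInFrakH p M H := by
  obtain ⟨h1, -, -⟩ := Cfsg.Lib.Asymmetric.main S hQp hQ1 hQ hSM hM hasym
  set Y := Cfsg.largestPReducedOf p M
  set P := Cfsg.pCoreOf p M
  set C := centralizer (Y : Set G)
  have hPp : IsPGroup p P := (Cfsg.Lib.Components.isPGroup_pCore p).map _
  have hPC : P ≤ C := Cfsg.Lib.Reduced.pCoreOf_le_centralizer M
  obtain ⟨T, L, hTL, hL, hYL⟩ := htall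
  obtain ⟨T', hT'⟩ := (hPp.comap_subtype (K := C)).exists_le_sylow
  obtain ⟨c, hc⟩ := MulAction.exists_smul_eq C T T'
  set L' := cj (c : G) L
  have hPL : P ≤ L' := by
    intro q hq
    have h : (⟨q, hPC hq⟩ : C) ∈ ((c • T : Sylow p C) : Subgroup C) := by rw [hc]; exact hT' hq
    rw [Cfsg.Lib.Transfer.sylow_smul_coe] at h
    obtain ⟨z, hz, e⟩ := h
    exact ⟨z, hTL ⟨z, hz, rfl⟩, congrArg Subtype.val e⟩
  have hcore : Cfsg.pCoreOf p L' = cj (c : G) (Cfsg.pCoreOf p L) := by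
    have hmap : ∀ (a : G) (K : Subgroup G), cj a (Cfsg.pCoreOf p K) ≤ Cfsg.pCoreOf p (cj a K) := fun a K =>
      Cfsg.Lib.Large.le_pCoreOf (map_mono (map_subtype_le _))
        (((Cfsg.Lib.Components.isPGroup_pCore p).map _).map _)
        (cj_normalizer (le_normalizer.trans (Cfsg.Lib.Large.normalizer_pCoreOf_le K)))
    refine le_antisymm ?_ (hmap _ _)
    have h := map_mono (f := (MulAut.conj (c : G)).toMonoidHom) (hmap (c : G)⁻¹ L')
    change cj _ (cj _ _) ≤ cj _ _ at h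
    rwa [cj_cj, mul_inv_cancel, cj_eq (one_mem (normalizer (Cfsg.pCoreOf p L' : Set G))), cj_cj (c : G)⁻¹,
      inv_mul_cancel, cj_eq (one_mem (normalizer (L : Set G)))] at h
  have hYc : cj (c : G) Y = Y := cj_eq (centralizer_le_normalizer _ c.2)
  have hYL' : ¬ Y ≤ Cfsg.pCoreOf p L' := by
    rw [hcore]
    intro h
    rw [← hYc] at h
    exact hYL ((map_le_map_iff_of_injective (MulAut.conj (c : G)).injective).1 h)
  have hL' : centralizer (Cfsg.pCore p L' : Set L') ≤ Cfsg.pCore p L' := by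
    intro x hx
    refine (mem_map_iff_mem L'.subtype_injective).mp ?_
    obtain ⟨l, hl, e⟩ := x.2
    show (x : G) ∈ Cfsg.pCoreOf p L'
    rw [hcore, ← e]
    refine mem_map_of_mem _ ⟨⟨l, hl⟩, hL (mem_centralizer_iff.mpr fun y hy => Subtype.ext ?_), rfl⟩
    have hy' : (MulAut.conj (c : G)).toMonoidHom (y : G) ∈ Cfsg.pCoreOf p L' := hcore ▸ mem_map_of_mem _ ⟨y, hy, rfl⟩
    obtain ⟨y', hy'', e'⟩ := hy'
    have h := congrArg Subtype.val (mem_centralizer_iff.mp hx y' hy'')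
    simp only [coe_mul] at h
    rw [← e, show (y' : G) = (MulAut.conj (c : G)).toMonoidHom y from e', ← map_mul, ← map_mul] at h
    exact (MulAut.conj (c : G)).injective h
  obtain ⟨H, ⟨hPH, hH, hYH⟩, hmin⟩ := WellFounded.has_min (wellFounded_lt (α := Subgroup G))
    {H | P ≤ H ∧ centralizer (Cfsg.pCore p H : Set H) ≤ Cfsg.pCore p H ∧ ¬ Y ≤ Cfsg.pCoreOf p H}
    ⟨L', hPL, hL', hYL'⟩
  refine ⟨H, hH, hPH, hYH, fun X hPX hlt => by_contra fun hne => ?_⟩
  set R := Cfsg.pCoreOf p H with hR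
  have hPR : P ≤ normalizer (R : Set G) := hPH.trans (le_normalizer.trans (Cfsg.Lib.Large.normalizer_pCoreOf_le H))
  have hRP : R ≤ normalizer (P : Set G) := le_sup_left.trans
    (h1 (R ⊔ P) (((Cfsg.Lib.Components.isPGroup_pCore p).map _).to_sup_of_normal_left' hPp hPR) le_sup_right).1
  exact hmin X ⟨hPX, subgroup_charP hPp (hM.1.2) hR hH hPX hlt.le hRP, hne⟩ hlt

end Cfsg.Lib.FrakH
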