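import Cfsg.Agent.Components.Reduced.FrakH
import Cfsg.Agent.Components.Misc.PIrr
import Cfsg.Agent.Components.WeaklyClosed.Factor
import Cfsg.Agent.Transfer.FittingPower

/-!
Elementary properties of the members of `ℌ(O_p(M))`.
-/

set_option linter.style.haveILetI false
set_option linter.unusedSectionVars false

namespace Cfsg.Lib.FrakHBasic

open Subgroup Cfsg.Lib.Asymmetric
open scoped commutatorElement

variable {G : Type*} [Group G] [Finite G] {p : ℕ} [hp : Fact p.Prime]

/-- a proper normal subgroup containing `P` cannot have `Y` in its core -/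
theorem core_mono_normal {H X : Subgroup G} (hXH : X ≤ H) (hn : H ≤ normalizer (X : Set G)) :
    Cfsg.pCoreOf p X ≤ Cfsg.pCoreOf p H :=
  Cfsg.Lib.Large.le_pCoreOf ((map_subtype_le _).trans hXH) ((Cfsg.Lib.Components.isPGroup_pCore p).map _)
    (hn.trans (Cfsg.Lib.Large.normalizer_pCoreOf_le X))

theorem ro_coprime (H : Subgroup G) : H ≤ normalizer (WFactor.RO p H : Set G) :=
  le_normalizer.trans (WFactor.le_normalizer_ro H)

theorem ro_sup_sylow (H : Subgroup G) (T : Sylow p H) : WFactor.RO p H ⊔ (T : Subgroup H).map H.subtype = H := by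
  have h := congrArg (Subgroup.map H.subtype) (Cfsg.Lib.Transfer.pResidual_sup_sylow T)
  rwa [Subgroup.map_sup, ← MonoidHom.range_eq_map, range_subtype] at h

variable (S : Sylow p G) {Q M H : Subgroup G}

theorem main (hQp : IsPGroup p Q) (hQ1 : Q ≠ ⊥) (hQ : Cfsg.IsLarge Q) (hSM : (S : Subgroup G) ≤ M)
    (hM : Cfsg.IsInFrakM p M) (hasym : ¬ Cfsg.IsSymmetricIn (Cfsg.largestPReducedOf p M))
    (hH : Cfsg.IsInFrakH p M H) :
    Cfsg.pCoreOf p H ≤ normalizer (Cfsg.pCoreOf p M : Set G) ⊓ normalizer (Cfsg.largestPReducedOf p M : Set G) ∧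
    ⁅WFactor.RO p H, Cfsg.largestPReducedOf p M⁆ = WFactor.RO p H ∧
    WFactor.RO p H ⊔ Cfsg.pCoreOf p M = H ∧
    WFactor.RO p H ⊔ Cfsg.largestPReducedOf p M =
      (normalClosure (((Cfsg.largestPReducedOf p M).subgroupOf H : Subgroup H) : Set H)).map H.subtype ∧
    (normalClosure (((Cfsg.pCoreOf p M).subgroupOf H : Subgroup H) : Set H)).map H.subtype = H := by
  obtain ⟨-, hPH, hYH, hproper⟩ := hH
  obtain ⟨h1, hNP, -⟩ := Cfsg.Lib.Asymmetric.main S hQp hQ1 hQ hSM hM hasym
  set Y := Cfsg.largestPReducedOf p M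
  set P := Cfsg.pCoreOf p M
  set R := WFactor.RO p H with hR
  have hPp : IsPGroup p P := (Cfsg.Lib.Components.isPGroup_pCore p).map _
  have hYP : Y ≤ P := Cfsg.Lib.Reduced.largestOf_le_pCoreOf M
  have hYN : normalizer (P : Set G) ≤ normalizer (Y : Set G) :=
    hNP.trans (sup_le (Cfsg.Lib.Reduced.normalizer_largestOf M) (centralizer_le_normalizer _))
  have hRH : R ≤ H := WFactor.ro_le H
  have hHR : H ≤ normalizer (R : Set G) := ro_coprime H
  have hOP : Cfsg.pCoreOf p H ≤ normalizer (P : Set G) := le_sup_left.trans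
    (h1 _ (((Cfsg.Lib.Components.isPGroup_pCore p).map _).to_sup_of_normal_left' hPp
      (hPH.trans (le_normalizer.trans (Cfsg.Lib.Large.normalizer_pCoreOf_le H)))) le_sup_right).1
  -- a normal subgroup containing `P` is the whole group
  have hfull : ∀ X : Subgroup G, X ≤ H → P ≤ X → H ≤ normalizer (X : Set G) → X = H := by
    intro X hXH hPX hn
    by_contra hne
    exact hYH ((hproper X hPX (lt_of_le_of_ne hXH hne)).trans (core_mono_normal hXH hn))
  obtain ⟨T, hT⟩ := (hPp.comap_subtype (K := H)).exists_le_sylow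
  set T' := (T : Subgroup H).map H.subtype
  have hPT : P ≤ T' := fun q hq => ⟨⟨q, hPH hq⟩, hT hq, rfl⟩
  have hTP : T' ≤ normalizer (P : Set G) := (h1 T' (T.2.map _) hPT).1
  have hRT : R ⊔ T' = H := ro_sup_sylow H T
  have hRP : R ⊔ P = H := by
    refine hfull _ (sup_le hRH hPH) le_sup_right ?_
    conv_lhs => rw [← hRT]
    exact sup_le (le_sup_left.trans le_normalizer)
      (Cfsg.Lib.Coprime.le_normalizer_sup ((map_subtype_le _).trans hHR) hTP)
  have hYle : Y ≤ H := hYP.trans hPH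
  have hPY : P ≤ normalizer (Y : Set G) := le_normalizer.trans hYN
  set D := ⁅R, Y⁆
  have hDR : D ≤ R := le_normalizer_iff_commutator_le_left.mp (hYle.trans hHR)
  have hRD : R ≤ normalizer (D : Set G) := Cfsg.Lib.PIrr.commutator_normalized R Y
  have hPD : P ≤ normalizer (D : Set G) := fun q hq =>
    WFactor.normalizer_commutator (hHR (hPH hq)) (hPY hq)
  have hRDY : R ≤ normalizer ((D ⊔ Y : Subgroup G) : Set G) := by
    intro r hr
    refine mem_normalizer_iff_map_conj_eq.mpr (Subgroup.eq_of_le_of_card_ge ?_ (Cfsg.Lib.Transfer.card_map_conj _ r).ge)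
    rw [Subgroup.map_sup]
    refine sup_le ((le_of_eq (mem_normalizer_iff_map_conj_eq.1 (hRD hr))).trans le_sup_left) ?_
    rintro _ ⟨y, hy, rfl⟩
    show r * y * r⁻¹ ∈ _
    rw [show r * y * r⁻¹ = ⁅r, y⁆ * y by group]
    exact mul_mem_sup (commutator_mem_commutator hr hy) hy
  have hHDY : H ≤ normalizer ((D ⊔ Y : Subgroup G) : Set G) :=
    hRP.ge.trans (sup_le hRDY (Cfsg.Lib.Coprime.le_normalizer_sup hPD hPY))
  have hDP : D ⊔ P = H := by
    by_contra hne
    have hYX := hproper (D ⊔ P) le_sup_right (lt_of_le_of_ne (sup_le (hDR.trans hRH) hPH) hne)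
    refine hYH ((le_inf hYX (le_sup_right : Y ≤ D ⊔ Y)).trans (le_trans ?_
      (core_mono_normal (p := p) (sup_le (hDR.trans hRH) hYle) hHDY)))
    exact Cfsg.Lib.Large.le_pCoreOf inf_le_right (((Cfsg.Lib.Components.isPGroup_pCore p).map _).to_le inf_le_left)
      (Cfsg.Lib.Coprime.le_normalizer_inf ((sup_le_sup_left hYP D).trans
        (le_normalizer.trans (Cfsg.Lib.Large.normalizer_pCoreOf_le _))) le_normalizer)
  have hRle : R ≤ D := by
    refine WFactor.ro_le_of H D fun x hx hc => ?_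
    exact Cfsg.Lib.PIrr.coprime_mem hPp hPD (hDP.symm ▸ hx) hc
  have hDeq : D = R := le_antisymm hDR hRle
  refine ⟨le_inf hOP (hOP.trans hYN), hDeq, hRP, le_antisymm ?_ ?_, ?_⟩
  · set N := normalClosure ((Y.subgroupOf H : Subgroup H) : Set H)
    have hYN' : Y ≤ N.map H.subtype := fun y hy =>
      ⟨⟨y, hYle hy⟩, subset_normalClosure (show (⟨y, hYle hy⟩ : H) ∈ Y.subgroupOf H from hy), rfl⟩
    refine sup_le ?_ hYN'
    conv_lhs => rw [← hDeq]
    refine commutator_le.mpr fun r hr y hy => ?_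
    rw [commutatorElement_def]
    refine mul_mem ?_ (inv_mem (hYN' hy))
    obtain ⟨y', hy', rfl⟩ := hYN' hy
    exact ⟨⟨r, hRH hr⟩ * y' * ⟨r, hRH hr⟩⁻¹, normalClosure_normal.conj_mem y' hy' _, rfl⟩
  · rw [map_le_iff_le_comap]
    haveI : ((R ⊔ Y).subgroupOf H).Normal := normal_subgroupOf_of_le_normalizer (by rw [← hDeq]; exact hHDY)
    exact normalClosure_le_normal (N := (R ⊔ Y).subgroupOf H) (fun y hy => mem_sup_right (S := R) (show (y : G) ∈ Y from hy))
  · refine hfull _ (map_subtype_le _) (fun q hq => ⟨⟨q, hPH hq⟩,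
      subset_normalClosure (show (⟨q, hPH hq⟩ : H) ∈ P.subgroupOf H from hq), rfl⟩) ?_
    haveI : (normalClosure ((P.subgroupOf H : Subgroup H) : Set H)).Normal := normalClosure_normal
    intro h hh
    rw [mem_normalizer_iff_map_conj_eq]
    refine Subgroup.eq_of_le_of_card_ge ?_ (Cfsg.Lib.Transfer.card_map_conj _ h).ge
    rintro _ ⟨_, ⟨n, hn, rfl⟩, rfl⟩
    exact ⟨⟨h, hh⟩ * n * ⟨h, hh⟩⁻¹, normalClosure_normal.conj_mem n hn _, rfl⟩

theorem sylow_inf (hQp : IsPGroup p Q) (hQ1 : Q ≠ ⊥) (hQ : Cfsg.IsLarge Q) (hSM : (S : Subgroup G) ≤ M)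
    (hM : Cfsg.IsInFrakM p M) (hasym : ¬ Cfsg.IsSymmetricIn (Cfsg.largestPReducedOf p M))
    (hPH : Cfsg.pCoreOf p M ≤ H)
    : ∀ T : Sylow p ↥(H ⊓ (M ⊔ centralizer (Cfsg.largestPReducedOf p M : Set G))), ∃ P : Sylow p H, (P : Subgroup H).map H.subtype =
      (T : Subgroup ↥(H ⊓ (M ⊔ centralizer (Cfsg.largestPReducedOf p M : Set G)))).map
        (H ⊓ (M ⊔ centralizer (Cfsg.largestPReducedOf p M : Set G))).subtype := by
  obtain ⟨h1, hNP, -⟩ := Cfsg.Lib.Asymmetric.main S hQp hQ1 hQ hSM hM hasym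
  intro T
  revert T
  set K := H ⊓ (M ⊔ centralizer (Cfsg.largestPReducedOf p M : Set G))
  intro T
  obtain ⟨R, hR⟩ := (((Cfsg.Lib.Components.isPGroup_pCore p).map M.subtype).comap_subtype (K := H)).exists_le_sylow
  have hRK : (R : Subgroup H).map H.subtype ≤ K := le_inf (map_subtype_le _)
    ((h1 ((R : Subgroup H).map H.subtype) (R.2.map _) fun z hz => ⟨⟨z, hPH hz⟩,
      hR (show (⟨z, hPH hz⟩ : H) ∈ (Cfsg.pCoreOf p M).subgroupOf H from hz), rfl⟩).1.trans hNP)
  set T' := (T : Subgroup K).map K.subtype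
  obtain ⟨P', hP'⟩ := ((T.2.map K.subtype).comap_subtype (K := H)).exists_le_sylow
  refine ⟨P', ?_⟩
  have hle : T' ≤ (P' : Subgroup H).map H.subtype := fun x hx =>
    ⟨⟨x, (mem_inf.mp (map_subtype_le (T : Subgroup K) hx)).1⟩, hP' hx, rfl⟩
  refine (Subgroup.eq_of_le_of_card_ge hle ?_).symm
  obtain ⟨R', hR'⟩ := ((R.2.map H.subtype).comap_subtype (K := K)).exists_le_sylow
  calc Nat.card ((P' : Subgroup H).map H.subtype : Subgroup G) = Nat.card (R : Subgroup H) := by
        rw [card_map_of_injective H.subtype_injective]; exact (Sylow.equiv P' R).toEquiv.trans (Equiv.refl _) |> Nat.card_congr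
    _ = Nat.card ((R : Subgroup H).map H.subtype : Subgroup G) := (card_map_of_injective H.subtype_injective).symm
    _ ≤ Nat.card ((R' : Subgroup K).map K.subtype : Subgroup G) :=
        Subgroup.card_le_of_le fun x hx => ⟨⟨x, hRK hx⟩, hR' hx, rfl⟩
    _ = Nat.card T' := by
        rw [card_map_of_injective K.subtype_injective, card_map_of_injective K.subtype_injective]
        exact Nat.card_congr (Sylow.equiv R' T).toEquiv

end Cfsg.Lib.FrakHBasic
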