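import Cfsg.Agent.Components.Reduced.FrakHLCore

/-!
Minimal subgroups of a member of `ℌ(O_p(M))` in which `Y_M` is not in the core.
-/

set_option linter.style.haveILetI false
set_option linter.unusedSectionVars false

namespace Cfsg.Lib.FrakHL

open Subgroup Cfsg.Lib.Asymmetric
open scoped commutatorElement

variable {G : Type*} [Group G] [Finite G] {p : ℕ} [hp : Fact p.Prime] {H R P Y L : Subgroup G}

theorem sup_eq (c : Ctx p H R P Y L) {X : Subgroup G} (hX : X ≤ H) (hL : L ≤ X ⊔ P) : X ⊔ P = H := by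
  by_contra hne
  set K := X ⊔ P
  have hK : K < H := lt_of_le_of_ne (sup_le hX c.ph) hne
  have hYK := c.proper K le_sup_right hK
  refine c.yo ((le_inf c.yl hYK).trans (Cfsg.Lib.Large.le_pCoreOf inf_le_left
    (((Cfsg.Lib.Components.isPGroup_pCore p).map _).to_le inf_le_right) ?_))
  exact Cfsg.Lib.Coprime.le_normalizer_inf le_normalizer
    (hL.trans (le_normalizer.trans (Cfsg.Lib.Large.normalizer_pCoreOf_le K)))

theorem conj_sup_eq (c : Ctx p H R P Y L) {h : G} (hh : h ∈ L) (hn : h ∉ normalizer (Y : Set G)) :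
    cj h Y ⊔ P = H := by
  have hg := gen_of_not_mem c hh hn
  refine sup_eq c ((le_sup_right.trans hg.le).trans c.lh) ?_
  conv_lhs => rw [← hg]
  exact sup_le (c.yp.trans le_sup_right) le_sup_left

theorem inf_lt (c : Ctx p H R P Y L) : L ⊓ normalizer (Y : Set G) < L :=
  lt_of_le_of_ne inf_le_left fun e =>
    c.yo (Cfsg.Lib.Large.le_pCoreOf c.yl (yp_isPGroup c) (e.ge.trans inf_le_right))

theorem minimal (c : Ctx p H R P Y L) : Cfsg.IsMinimalOver (Y.subgroupOf L) := by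
  have hself : ∀ y : G, ∀ hy : y ∈ Y, (⟨y, c.yl hy⟩ : L) ∈ Y.subgroupOf L := fun y hy => hy
  refine ⟨?_, (L ⊓ normalizer (Y : Set G)).subgroupOf L, ⟨?_, ?_⟩, ?_⟩
  · by_contra hne
    set N := normalClosure ((Y.subgroupOf L : Subgroup L) : Set L)
    set X := N.map L.subtype
    have hYX : Y ≤ X := fun y hy => ⟨⟨y, c.yl hy⟩, subset_normalClosure (hself y hy), rfl⟩
    have hXL : X ≠ L := fun e => hne (map_injective L.subtype_injective
      (e.trans (by rw [← MonoidHom.range_eq_map, range_subtype])))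
    have hLX : L ≤ normalizer (X : Set G) := by
      intro x hx
      refine Cfsg.Lib.Large.mem_normalizer_of_le _ ?_
      rintro _ ⟨n, hn, rfl⟩
      exact ⟨⟨x, hx⟩ * n * ⟨x, hx⟩⁻¹, normalClosure_normal.conj_mem n hn _, rfl⟩
    refine c.yo ((?_ : Y ≤ Cfsg.pCoreOf p X).trans
      (Cfsg.Lib.FrakHBasic.core_mono_normal (map_subtype_le N) hLX))
    by_contra h1
    exact hXL (c.small X (map_subtype_le N) hYX h1)
  · refine ⟨fun e => (inf_lt c).ne (le_antisymm inf_le_left (subgroupOf_eq_top.mp e)), fun X hlt => ?_⟩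
    by_contra hne
    have hle : Y ≤ X.map L.subtype := fun y hy =>
      ⟨⟨y, c.yl hy⟩, hlt.le (show (y : G) ∈ L ⊓ normalizer (Y : Set G) from ⟨c.yl hy, le_normalizer hy⟩), rfl⟩
    have h1 := proper_le c hle (map_subtype_le X) fun e => hne (map_injective L.subtype_injective
      (e.trans (by rw [← MonoidHom.range_eq_map, range_subtype])))
    exact hlt.not_ge fun x hx => mem_inf.mpr ⟨x.2, h1 ⟨x, hx, rfl⟩⟩
  · intro y hy
    exact ⟨y.2, le_normalizer (show (y : G) ∈ Y from hy)⟩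
  · rintro X ⟨hX, hYX⟩
    have hle : X ≤ (L ⊓ normalizer (Y : Set G)).subgroupOf L := fun x hx => mem_inf.mpr ⟨x.2,
      proper_le c (X := X.map L.subtype) (fun y hy => ⟨⟨y, c.yl hy⟩, hYX (hself y hy), rfl⟩) (map_subtype_le X)
        (fun e => hX.1 (map_injective L.subtype_injective
          (e.trans (by rw [← MonoidHom.range_eq_map, range_subtype])))) ⟨x, hx, rfl⟩⟩
    rcases lt_or_eq_of_le hle with h1 | h1
    · exact absurd (subgroupOf_eq_top.mp (hX.2 _ h1)) fun e => (inf_lt c).ne (le_antisymm inf_le_left e)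
    · exact h1

theorem charP (c : Ctx p H R P Y L) : centralizer (Cfsg.pCore p L : Set L) ≤ Cfsg.pCore p L := by
  obtain ⟨h, hh, hgen⟩ := exists_gen c
  obtain ⟨hV0, -, hLS, -, -, -, -, -, -, -, -, -⟩ := facts c hh hgen
  set O := Cfsg.pCoreOf p L with hO
  have hLO : L ≤ normalizer (O : Set G) := le_normalizer.trans (Cfsg.Lib.Large.normalizer_pCoreOf_le L)
  have hLR : L ≤ normalizer (R : Set G) := c.lh.trans c.hr
  have hRLO : R ⊓ L ≤ O := Cfsg.Lib.Large.le_pCoreOf inf_le_right (c.rp.to_le inf_le_left)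
    (Cfsg.Lib.Coprime.le_normalizer_inf hLR le_normalizer)
  have hVL : vv R Y h ≤ L :=
    sup_le (inf_le_left.trans c.yl) ((map_mono (inf_le_left.trans c.yl)).trans (cj_eq (le_normalizer hh)).le)
  set C0 := L ⊓ centralizer (O : Set G)
  have hC0 : IsPGroup p C0 := by
    refine Cfsg.Lib.Easy.isPGroup_of_coprime_trivial _ fun x hx hc => ?_
    obtain ⟨hxL, hxO⟩ := mem_inf.mp hx
    have f1 := fix_series (c.rp.to_le hV0) hc
      (fun v hv => (mem_centralizer_iff.mp hxO v (hRLO (mem_inf.mpr ⟨hV0 hv, hVL hv⟩))).symm) (hLS hxL)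
    exact eq_one_of_p c.rp
      (c.charp (mem_inf.mpr ⟨c.lh hxL, mem_centralizer_iff.mpr fun r hr => (f1 r hr).symm⟩)) hc
  have hC0O : C0 ≤ O := Cfsg.Lib.Large.le_pCoreOf inf_le_left hC0
    (Cfsg.Lib.Coprime.le_normalizer_inf le_normalizer
      (hLO.trans (Cfsg.Lib.Large.normalizer_centralizer_le O)))
  intro x hx
  refine (mem_map_iff_mem L.subtype_injective).mp (hC0O (mem_inf.mpr ⟨x.2, mem_centralizer_iff.mpr ?_⟩))
  rintro _ ⟨y, hy, rfl⟩
  exact congrArg Subtype.val (mem_centralizer_iff.mp hx y hy)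

theorem core_inf_le (c : Ctx p H R P Y L) : Cfsg.pCoreOf p L ⊓ Y ≤ R := by
  obtain ⟨h, hh, hgen⟩ := exists_gen c
  obtain ⟨hV0, -, hLS, hLC, hLc, hRD, -, hRC, hDE, -, -, hPC⟩ := facts c hh hgen
  set O := Cfsg.pCoreOf p L with hO
  set C := cc R Y h
  set U := vv R Y h ⊔ ee R Y h with hU
  have hOp : IsPGroup p O := (Cfsg.Lib.Components.isPGroup_pCore p).map _
  have hLO : L ≤ normalizer (O : Set G) := le_normalizer.trans (Cfsg.Lib.Large.normalizer_pCoreOf_le L)
  have hON : O ≤ normalizer (Y : Set G) := by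
    refine le_sup_left.trans (proper_le c (le_sup_right : Y ≤ O ⊔ Y) (sup_le (map_subtype_le _) c.yl) fun e => ?_)
    refine c.yo ((le_sup_right : Y ≤ O ⊔ Y).trans (Cfsg.Lib.Large.le_pCoreOf e.le
      (hOp.to_sup_of_normal_left' (yp_isPGroup c) (c.yl.trans hLO)) (e.ge.trans le_normalizer)))
  have hON' : O ≤ normalizer (cj h Y : Set G) := by
    have h1 := cj_normalizer (a := h) hON
    rwa [cj_eq (hLO hh)] at h1
  have hLR : L ≤ normalizer (R : Set G) := c.lh.trans c.hr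
  have hUR : U ≤ R := sup_le hV0 inf_le_left
  have hLU : L ≤ normalizer (U : Set G) := fun l hl => Cfsg.Lib.Large.mem_normalizer_of_le _ fun v hv => by
    rw [show l * v * l⁻¹ = ⁅l, v⁆ * v by group]
    exact mul_mem (mem_sup_left ((mem_stab.mp (hLS hl)).2.2 v (hUR hv))) hv
  have hPR : P ≤ normalizer (R : Set G) := c.ph.trans c.hr
  have hPE : ∀ q ∈ P, ∀ r ∈ R, ⁅q, r⁆ ∈ ee R Y h := fun q hq r hr => by
    have hqr : ⁅q, r⁆ ∈ R := by
      rw [commutatorElement_def]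
      exact mul_mem ((mem_normalizer_iff.mp (hPR hq) r).mp hr) (inv_mem hr)
    refine mem_inf.mpr ⟨hqr, mem_stab.mpr ⟨c.ry hqr, hRC hqr, fun y hy => ?_⟩⟩
    have hq' : ∀ z ∈ Y, q⁻¹ * z * q = z := fun z hz => by
      rw [mul_assoc, mem_centralizer_iff.mp (c.pc hq) z hz, inv_mul_cancel_left]
    have hy' : r⁻¹ * y * r ∈ Y := by
      simpa using (mem_normalizer_iff.mp (inv_mem (c.ry hr)) y).mp hy
    have e3 : ⁅q, r⁆ * y * ⁅q, r⁆⁻¹ = y := by
      calc ⁅q, r⁆ * y * ⁅q, r⁆⁻¹ = q * r * (q⁻¹ * (r⁻¹ * y * r) * q) * r⁻¹ * q⁻¹ := by group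
        _ = q * (q⁻¹ * y * q) * q⁻¹ := by rw [hq' _ hy', hq' y hy]; group
        _ = y := by group
    rw [commutatorElement_def, e3, mul_inv_cancel]
    exact one_mem _
  have hPU : P ≤ normalizer (U : Set G) := fun q hq => Cfsg.Lib.Large.mem_normalizer_of_le _ fun v hv => by
    rw [show q * v * q⁻¹ = ⁅q, v⁆ * v by group]
    exact mul_mem (mem_sup_right (hPE q hq v (hUR hv))) hv
  have hLP : L ⊔ P = H := sup_eq c c.lh le_sup_left
  have hHU : H ≤ normalizer (U : Set G) := hLP.ge.trans (sup_le hLU hPU)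
  have hHC : H ≤ normalizer (C : Set G) :=
    hLP.ge.trans (sup_le hLC (hPC.trans (centralizer_le_normalizer _)))
  set A := H ⊓ centralizer (C : Set G) ⊓ (stab R U ⊓ stab U C) with hA
  have hAp : IsPGroup p A := by
    refine Cfsg.Lib.Easy.isPGroup_of_coprime_trivial A fun x hx hc => ?_
    obtain ⟨⟨hxH, hxC⟩, hx1, hx2⟩ := hx
    have f1 := fix_series (c.rp.to_le (inf_le_left.trans inf_le_right)) hc
      (fun d hd => (mem_centralizer_iff.mp hxC d hd).symm) hx2
    have f2 := fix_series (c.rp.to_le hUR) hc f1 hx1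
    exact eq_one_of_p c.rp (c.charp (mem_inf.mpr ⟨hxH, mem_centralizer_iff.mpr fun r hr => (f2 r hr).symm⟩)) hc
  have hHA : H ≤ normalizer (A : Set G) := Cfsg.Lib.Coprime.le_normalizer_inf
    (Cfsg.Lib.Coprime.le_normalizer_inf le_normalizer (hHC.trans (Cfsg.Lib.Large.normalizer_centralizer_le C)))
    (Cfsg.Lib.Coprime.le_normalizer_inf (le_normalizer_stab c.hr hHU) (le_normalizer_stab hHU hHC))
  have hAR : A ≤ R := c.core ▸ Cfsg.Lib.Large.le_pCoreOf (inf_le_left.trans inf_le_left) hAp hHA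
  intro y hy
  obtain ⟨hyO, hyY⟩ := mem_inf.mp hy
  have hyH : y ∈ H := c.lh (c.yl hyY)
  refine hAR (mem_inf.mpr ⟨mem_inf.mpr ⟨hyH, hLc (c.yl hyY)⟩, mem_inf.mpr ⟨mem_stab.mpr ⟨c.hr hyH, hHU hyH,
    fun r hr => ?_⟩, mem_stab.mpr ⟨hHU hyH, hHC hyH, fun v hv => ?_⟩⟩⟩)
  · rw [← commutatorElement_inv]
    exact inv_mem (mem_sup_left (mem_sup_left (comm_d c hr hyY)))
  · have hle : U ≤ fixMod C y := by
      refine sup_le (sup_le (fun d hd => ⟨hRC (mem_inf.mp hd).2, ?_⟩) (fun e he => ?_))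
        (fun r hr => ⟨hRC (mem_inf.mp hr).1, (mem_stab.mp (mem_inf.mp hr).2).2.2 y hyY⟩)
      · rw [commutatorElement_eq_one_iff_mul_comm.mpr (c.yab d (mem_inf.mp hd).1 y hyY)]
        exact one_mem _
      · have heR : e ∈ R := hV0 (mem_sup_right he)
        have he' : cj h (Y ⊓ R) = cj h Y ⊓ R := by
          rw [cj, Subgroup.map_inf _ _ _ (MulAut.conj h).injective]
          exact congrArg _ (cj_eq (c.hr (c.lh hh)))
        refine ⟨hRC heR, mem_inf.mpr ⟨comm_d c heR hyY, ?_⟩⟩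
        have hyn : y ∈ normalizer (cj h (Y ⊓ R) : Set G) := by
          rw [he']
          exact Cfsg.Lib.Coprime.le_normalizer_inf ((zpowers_le.mpr hyO).trans hON')
            (zpowers_le.mpr (c.hr hyH)) (mem_zpowers y)
        rw [show ⁅e, y⁆ = e * (y * e⁻¹ * y⁻¹) by group]
        exact mul_mem he ((mem_normalizer_iff.mp hyn _).mp (inv_mem he))
    rw [← commutatorElement_inv]
    exact inv_mem (hle hv).2

theorem chief (c : Ctx p H R P Y L) (V W' : Subgroup G) (hVR : V ≤ R) (hV : H ≤ normalizer (V : Set G))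
    (hW : H ≤ normalizer (W' : Set G)) (hlt : W' < V)
    (hmin : ∀ Z : Subgroup G, H ≤ normalizer (Z : Set G) → W' ≤ Z → Z ≤ V → Z = W' ∨ Z = V)
    (hne : ¬ ⁅V, H⁆ ≤ W') : ¬ ⁅V, WFactor.RO p L⁆ ≤ W' := by
  intro hle
  set K := H ⊓ stab V W' with hK
  have hHK : H ≤ normalizer (K : Set G) :=
    Cfsg.Lib.Coprime.le_normalizer_inf le_normalizer (le_normalizer_stab hV hW)
  have hROK : WFactor.RO p L ≤ K := fun x hx => by
    have hxH : x ∈ H := c.lh (WFactor.ro_le L hx)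
    refine mem_inf.mpr ⟨hxH, mem_stab.mpr ⟨hV hxH, hW hxH, fun v hv => ?_⟩⟩
    rw [← commutatorElement_inv]
    exact inv_mem (hle (commutator_mem_commutator hv hx))
  set X := L ⊓ (K ⊔ P)
  have hYX : Y ≤ X := le_inf c.yl (c.yp.trans le_sup_right)
  have hXL : X = L := by
    by_contra hne'
    have hX := proper_le c hYX inf_le_left hne'
    obtain ⟨T, hT⟩ := ((yp_isPGroup c).comap_subtype (K := L)).exists_le_sylow
    set T' := (T : Subgroup L).map L.subtype
    have hRT : WFactor.RO p L ⊔ T' = L := Cfsg.Lib.FrakHBasic.ro_sup_sylow L T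
    have hTn : T' ≤ normalizer (WFactor.RO p L : Set G) :=
      (map_subtype_le _).trans (le_normalizer.trans (WFactor.le_normalizer_ro L))
    have hncl : normalClosure ((Y.subgroupOf L : Subgroup L) : Set L) ≤ T := by
      rw [normalClosure, closure_le]
      intro z hz
      obtain ⟨y, hy, hyz⟩ := Group.mem_conjugatesOfSet_iff.1 hz
      obtain ⟨l, rfl⟩ := isConj_iff.1 hyz
      obtain ⟨t, ht, k, hk, hl⟩ := (Cfsg.Lib.Coprime.mem_sup_of_le_normalizer' hTn).mp (hRT.ge l.2)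
      have hky : k * (y : G) * k⁻¹ ∈ Y := (mem_normalizer_iff.mp
        (hX (mem_inf.mpr ⟨WFactor.ro_le L hk, mem_sup_left (hROK hk)⟩)) _).mp hy
      have hmem : ((l * y * l⁻¹ : L) : G) ∈ T' := by
        show (l : G) * y * (l : G)⁻¹ ∈ T'
        rw [← hl, show t * k * (y : G) * (t * k)⁻¹ = t * (k * y * k⁻¹) * t⁻¹ by group]
        exact mul_mem (mul_mem ht ⟨⟨_, c.yl hky⟩, hT hky, rfl⟩) (inv_mem ht)
      exact (mem_map_iff_mem L.subtype_injective).mp hmem
    rw [(minimal c).1, top_le_iff] at hncl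
    refine c.yo (c.yl.trans (Cfsg.Lib.Large.le_pCoreOf le_rfl ?_ le_normalizer))
    have h2 : T' = L := by
      show (T : Subgroup L).map L.subtype = L
      rw [hncl, ← MonoidHom.range_eq_map, range_subtype]
    exact h2 ▸ T.2.map L.subtype
  have hHKP : H ≤ K ⊔ P := (sup_eq c c.lh le_sup_left).ge.trans (sup_le (hXL.ge.trans inf_le_right) le_sup_right)
  have hPK : P ≤ normalizer (K : Set G) := c.ph.trans hHK
  have hRH : WFactor.RO p H ≤ K := WFactor.ro_le_of H K fun x hx hc =>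
    Cfsg.Lib.PIrr.coprime_mem c.pp hPK (hHKP hx) hc
  obtain ⟨T, hT⟩ := (c.rp.comap_subtype (K := H)).exists_le_sylow
  set T' := (T : Subgroup H).map H.subtype
  have hRT : WFactor.RO p H ⊔ T' = H := Cfsg.Lib.FrakHBasic.ro_sup_sylow H T
  have hT'H : T' ≤ H := map_subtype_le _
  have hVT : V ≤ T' := fun v hv => ⟨⟨v, c.rh (hVR hv)⟩, hT (hVR hv), rfl⟩
  have hZ : W' ⊔ ⁅V, H⁆ = V := by
    have hVH : ⁅V, H⁆ ≤ V := le_normalizer_iff_commutator_le_left.mp hV
    refine (hmin _ (Cfsg.Lib.Coprime.le_normalizer_sup hW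
      fun x hx => WFactor.normalizer_commutator (hV hx) (le_normalizer hx)) le_sup_left (sup_le hlt.le hVH)).resolve_left
      fun e => hne (le_sup_right.trans e.le)
  have hbase : V ≤ W' ⊔ ⁅V, T'⁆ := by
    conv_lhs => rw [← hZ]
    refine sup_le le_sup_left (commutator_le.mpr fun v hv x hx => ?_)
    obtain ⟨k, hk, t, ht, rfl⟩ := (Cfsg.Lib.Coprime.mem_sup_of_le_normalizer
      (hT'H.trans (le_normalizer.trans (WFactor.le_normalizer_ro H)))).mp (hRT.ge hx)
    obtain ⟨hkH, hks⟩ := mem_inf.mp (hRH hk)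
    have h3 := (mem_stab.mp hks).2.2
    have hvt : ⁅v, t⁆ ∈ ⁅V, T'⁆ := commutator_mem_commutator hv ht
    rw [show ⁅v, k * t⁆ = ⁅k, v⁆⁻¹ * (⁅k, ⁅v, t⁆⁆ * ⁅v, t⁆) by group]
    exact mul_mem (mem_sup_left (inv_mem (h3 v hv)))
      (mul_mem (mem_sup_left (h3 _ ((le_normalizer_iff_commutator_le_left.mp (hT'H.trans hV)) hvt)))
        (mem_sup_right hvt))
  have hWT : T' ≤ normalizer (W' : Set G) := hT'H.trans hW
  have hiter : ∀ n, V ≤ W' ⊔ T'.lowerCentralSeries n := by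
    intro n
    induction n with
    | zero => rw [Subgroup.lowerCentralSeries_zero]; exact hVT.trans le_sup_right
    | succ n ih =>
      refine hbase.trans (sup_le le_sup_left (commutator_le.mpr fun v hv t ht => ?_))
      have hΓ : T' ≤ normalizer (T'.lowerCentralSeries n : Set G) := T'.self_le_normalizer_lowerCentralSeries n
      obtain ⟨b, hb, a, ha, rfl⟩ := (Cfsg.Lib.Coprime.mem_sup_of_le_normalizer'
        (T'.lowerCentralSeries_antitone (Nat.zero_le n) |>.trans hWT)).mp (ih hv)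
      have hbT : b ∈ T' := T'.lowerCentralSeries_antitone (Nat.zero_le n) hb
      rw [show ⁅b * a, t⁆ = b * (a * (t * a⁻¹ * t⁻¹)) * b⁻¹ * ⁅b, t⁆ by group]
      refine mul_mem (mem_sup_left ((mem_normalizer_iff.mp (hWT hbT) _).mp
        (mul_mem ha ((mem_normalizer_iff.mp (hWT ht) _).mp (inv_mem ha))))) (mem_sup_right ?_)
      rw [Subgroup.lowerCentralSeries_succ]
      exact commutator_mem_commutator hb ht
  obtain ⟨n, hn⟩ : ∃ n, T'.lowerCentralSeries n = ⊥ := by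
    haveI : Group.IsNilpotent T' := IsPGroup.isNilpotent (T.2.map _)
    obtain ⟨n, hn⟩ := Subgroup.nilpotent_iff_lowerCentralSeries.mp ‹Group.IsNilpotent T'›
    refine ⟨n, ?_⟩
    have hmap : ∀ k, ((⊤ : Subgroup T').lowerCentralSeries k).map T'.subtype = T'.lowerCentralSeries k := by
      intro k
      induction k with
      | zero => rw [Subgroup.lowerCentralSeries_zero, Subgroup.lowerCentralSeries_zero, ← MonoidHom.range_eq_map, range_subtype]
      | succ k ih =>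
        rw [Subgroup.lowerCentralSeries_succ, Subgroup.lowerCentralSeries_succ, Subgroup.map_commutator, ih, ← MonoidHom.range_eq_map,
          range_subtype]
    rw [← hmap, hn, Subgroup.map_bot]
  exact hlt.not_ge ((hiter n).trans (by rw [hn, sup_bot_eq]))

theorem main (S : Sylow p G) {Q M : Subgroup G} (hQp : IsPGroup p Q) (hQ1 : Q ≠ ⊥) (hQ : Cfsg.IsLarge Q)
    (hSM : (S : Subgroup G) ≤ M) (hM : Cfsg.IsInFrakM p M)
    (hasym : ¬ Cfsg.IsSymmetricIn (Cfsg.largestPReducedOf p M)) (hH : Cfsg.IsInFrakH p M H) (hLH : L ≤ H)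
    (hYL : Cfsg.largestPReducedOf p M ≤ L) (hYO : ¬ Cfsg.largestPReducedOf p M ≤ Cfsg.pCoreOf p L)
    (hmin : ∀ L' : Subgroup G, L' ≤ L → Cfsg.largestPReducedOf p M ≤ L' →
      ¬ Cfsg.largestPReducedOf p M ≤ Cfsg.pCoreOf p L' → L' = L) :
    Ctx p H (Cfsg.pCoreOf p H) (Cfsg.pCoreOf p M) (Cfsg.largestPReducedOf p M) L := by
  obtain ⟨h1, hNP, -⟩ := Cfsg.Lib.Asymmetric.main S hQp hQ1 hQ hSM hM hasym
  obtain ⟨hRn, -, -, -, -⟩ := Cfsg.Lib.FrakHBasic.main S hQp hQ1 hQ hSM hM hasym hH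
  obtain ⟨hHc, hPH, -, hproper⟩ := hH
  have hdag : M ⊔ centralizer (Cfsg.largestPReducedOf p M : Set G) ≤
      normalizer (Cfsg.largestPReducedOf p M : Set G) :=
    sup_le (Cfsg.Lib.Reduced.normalizer_largestOf M) (centralizer_le_normalizer _)
  refine ⟨map_subtype_le _, le_normalizer.trans (Cfsg.Lib.Large.normalizer_pCoreOf_le H),
    (Cfsg.Lib.Components.isPGroup_pCore p).map _, ?_, rfl, Cfsg.Lib.Reduced.largestOf_le_pCoreOf M, hPH,
    (Cfsg.Lib.Components.isPGroup_pCore p).map _, Cfsg.Lib.Reduced.pCoreOf_le_centralizer M, ?_,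
    hRn.trans inf_le_right, fun X hX hPX => ((h1 X hX hPX).2).trans (hNP.trans hdag), hasym, hproper, hLH, hYL,
    hYO, hmin⟩
  · intro x hx
    obtain ⟨hxH, hxc⟩ := mem_inf.mp hx
    exact ⟨⟨x, hxH⟩, hHc (mem_centralizer_iff.mpr fun y hy => Subtype.ext
      (mem_centralizer_iff.mp hxc _ ⟨y, hy, rfl⟩)), rfl⟩
  · obtain ⟨hab, -⟩ := (Cfsg.Lib.Reduced.largest_isReduced (p := p) (G := M)).2.1
    rintro _ ⟨a, ha, rfl⟩ _ ⟨b, hb, rfl⟩
    rw [← map_mul, ← map_mul]
    exact congrArg M.subtype (congrArg Subtype.val (hab.is_comm.comm ⟨a, ha⟩ ⟨b, hb⟩))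

theorem closure_le_core (c : Ctx p H R P Y L) :
    (normalClosure (((Cfsg.pCoreOf p L ⊓ Y).subgroupOf L : Subgroup L) : Set L)).map L.subtype ≤ R := by
  rw [map_le_iff_le_comap]
  haveI : (R.subgroupOf L).Normal :=
    ⟨fun n hn g => (mem_normalizer_iff.mp (c.hr (c.lh g.2)) (n : G)).mp hn⟩
  exact normalClosure_le_normal (N := R.subgroupOf L) fun x hx => core_inf_le c hx

end Cfsg.Lib.FrakHL
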