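import Cfsg.Agent.Components.Reduced.FrakHBasic
import Cfsg.Agent.Quadratic.BaerSuzuki

/-!
Minimal subgroups of a member of `ℌ(O_p(M))` in which `Y_M` is not in the core: abstract part.
-/

set_option linter.style.haveILetI false
set_option linter.unusedSectionVars false

namespace Cfsg.Lib.FrakHL

open Subgroup Cfsg.Lib.Asymmetric
open scoped commutatorElement

variable {G : Type*} [Group G] [Finite G] {p : ℕ} [hp : Fact p.Prime]

/-- elements normalizing `W` and centralizing `x` modulo `W` -/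
def fixMod (W : Subgroup G) (x : G) : Subgroup G where
  carrier := {g | g ∈ normalizer (W : Set G) ∧ ⁅g, x⁆ ∈ W}
  one_mem' := ⟨one_mem _, by rw [commutatorElement_one_left]; exact one_mem W⟩
  mul_mem' := by
    rintro g k ⟨hg, hgx⟩ ⟨hk, hkx⟩
    refine ⟨mul_mem hg hk, ?_⟩
    rw [show ⁅g * k, x⁆ = g * ⁅k, x⁆ * g⁻¹ * ⁅g, x⁆ by group]
    exact mul_mem ((mem_normalizer_iff.mp hg _).mp hkx) hgx
  inv_mem' := by
    rintro g ⟨hg, hgx⟩
    refine ⟨inv_mem hg, ?_⟩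
    rw [show ⁅g⁻¹, x⁆ = g⁻¹ * ⁅g, x⁆⁻¹ * g⁻¹⁻¹ by group]
    exact (mem_normalizer_iff.mp (inv_mem hg) _).mp (inv_mem hgx)

theorem mem_fixMod {W : Subgroup G} {x g : G} :
    g ∈ fixMod W x ↔ g ∈ normalizer (W : Set G) ∧ ⁅g, x⁆ ∈ W := Iff.rfl

/-- elements normalizing `X` and `W` and centralizing `X` modulo `W` -/
def stab (X W : Subgroup G) : Subgroup G :=
  normalizer (X : Set G) ⊓ ⨅ x : X, fixMod W (x : G)

theorem mem_stab {X W : Subgroup G} {g : G} : g ∈ stab X W ↔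
    g ∈ normalizer (X : Set G) ∧ g ∈ normalizer (W : Set G) ∧ ∀ x ∈ X, ⁅g, x⁆ ∈ W := by
  rw [stab, mem_inf, mem_iInf]
  exact ⟨fun h => ⟨h.1, (h.2 1).1, fun x hx => (h.2 ⟨x, hx⟩).2⟩, fun h => ⟨h.1, fun x => ⟨h.2.1, h.2.2 x x.2⟩⟩⟩

theorem le_normalizer_stab {X W K : Subgroup G} (hX : K ≤ normalizer (X : Set G))
    (hW : K ≤ normalizer (W : Set G)) : K ≤ normalizer (stab X W : Set G) := by
  intro k hk
  refine Cfsg.Lib.Large.mem_normalizer_of_le _ fun g hg => ?_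
  obtain ⟨h1, h2, h3⟩ := mem_stab.mp hg
  refine mem_stab.mpr ⟨mul_mem (mul_mem (hX hk) h1) (inv_mem (hX hk)),
    mul_mem (mul_mem (hW hk) h2) (inv_mem (hW hk)), fun x hx => ?_⟩
  have hx' : k⁻¹ * x * k ∈ X := by
    simpa using (mem_normalizer_iff.mp (inv_mem (hX hk)) x).mp hx
  rw [show ⁅k * g * k⁻¹, x⁆ = k * ⁅g, k⁻¹ * x * k⁆ * k⁻¹ by group]
  exact (mem_normalizer_iff.mp (hW hk) _).mp (h3 _ hx')

theorem eq_one_of_p {R : Subgroup G} (hR : IsPGroup p R) {x : G} (hx : x ∈ R)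
    (hc : (orderOf x).Coprime p) : x = 1 := by
  obtain ⟨k, hk⟩ := hR ⟨x, hx⟩
  exact orderOf_eq_one_iff.mp (Nat.eq_one_of_dvd_coprimes (hc.pow_right k) dvd_rfl
    (orderOf_dvd_of_pow_eq_one (congrArg Subtype.val hk)))

/-- a coprime element stabilising a series centralises it -/
theorem fix_series {X W : Subgroup G} (hW : IsPGroup p W) {x : G} (hc : (orderOf x).Coprime p)
    (hfix : ∀ w ∈ W, x * w = w * x) (hst : x ∈ stab X W) : ∀ r ∈ X, x * r = r * x := fun r hr =>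
  Cfsg.Lib.FrakH.commute_of_coprime hW hc hfix ((mem_stab.mp hst).2.2 r hr)

/-- the standing hypotheses -/
structure Ctx (p : ℕ) (H R P Y L : Subgroup G) : Prop where
  rh : R ≤ H
  hr : H ≤ normalizer (R : Set G)
  rp : IsPGroup p R
  charp : H ⊓ centralizer (R : Set G) ≤ R
  core : R = Cfsg.pCoreOf p H
  yp : Y ≤ P
  ph : P ≤ H
  pp : IsPGroup p P
  pc : P ≤ centralizer (Y : Set G)
  yab : ∀ a ∈ Y, ∀ b ∈ Y, a * b = b * a
  ry : R ≤ normalizer (Y : Set G)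
  weak : ∀ X : Subgroup G, IsPGroup p X → P ≤ X → normalizer (X : Set G) ≤ normalizer (Y : Set G)
  asym : ¬ Cfsg.IsSymmetricIn Y
  proper : ∀ K : Subgroup G, P ≤ K → K < H → Y ≤ Cfsg.pCoreOf p K
  lh : L ≤ H
  yl : Y ≤ L
  yo : ¬ Y ≤ Cfsg.pCoreOf p L
  small : ∀ L' : Subgroup G, L' ≤ L → Y ≤ L' → ¬ Y ≤ Cfsg.pCoreOf p L' → L' = L

variable {H R P Y L : Subgroup G}

theorem yp_isPGroup (c : Ctx p H R P Y L) : IsPGroup p Y := c.pp.to_le c.yp

theorem comm_d (c : Ctx p H R P Y L) {r y : G} (hr : r ∈ R) (hy : y ∈ Y) : ⁅r, y⁆ ∈ Y ⊓ R := by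
  refine mem_inf.mpr ⟨?_, ?_⟩
  · rw [commutatorElement_def]
    exact mul_mem ((mem_normalizer_iff.mp (c.ry hr) y).mp hy) (inv_mem hy)
  · rw [show ⁅r, y⁆ = r * (y * r⁻¹ * y⁻¹) by group]
    exact mul_mem hr ((mem_normalizer_iff.mp (c.hr (c.ph (c.yp hy))) _).mp (inv_mem hr))

theorem comm_cj (c : Ctx p H R P Y L) {h r y : G} (hh : h ∈ H) (hr : r ∈ R) (hy : y ∈ cj h Y) :
    ⁅r, y⁆ ∈ cj h (Y ⊓ R) := by
  obtain ⟨y0, hy0, rfl⟩ := hy
  have hr' : h⁻¹ * r * h ∈ R := by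
    simpa using (mem_normalizer_iff.mp (inv_mem (c.hr hh)) r).mp hr
  refine ⟨_, comm_d c hr' hy0, ?_⟩
  show h * ⁅h⁻¹ * r * h, y0⁆ * h⁻¹ = ⁅r, h * y0 * h⁻¹⁆
  group

/-- the intersection `C` of the two images -/
abbrev cc (R Y : Subgroup G) (h : G) : Subgroup G := (Y ⊓ R) ⊓ cj h (Y ⊓ R)

/-- their product `V` -/
abbrev vv (R Y : Subgroup G) (h : G) : Subgroup G := (Y ⊓ R) ⊔ cj h (Y ⊓ R)

/-- the elements of `R` centralizing `Y` modulo `C` -/
abbrev ee (R Y : Subgroup G) (h : G) : Subgroup G := R ⊓ stab Y (cc R Y h)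

/-- facts about a generating pair -/
structure Facts (p : ℕ) (H R P Y L : Subgroup G) (h : G) : Prop where
  vr : vv R Y h ≤ R
  vl : L ≤ normalizer (vv R Y h : Set G)
  lv : L ≤ stab R (vv R Y h)
  cl : L ≤ normalizer (cc R Y h : Set G)
  lc : L ≤ centralizer (cc R Y h : Set G)
  rd : R ≤ normalizer ((Y ⊓ R : Subgroup G) : Set G)
  rdh : R ≤ normalizer (cj h (Y ⊓ R) : Set G)
  rc : R ≤ normalizer (cc R Y h : Set G)
  de : Y ⊓ R ≤ ee R Y h
  int : ∀ z ∈ vv R Y h, z ∈ ee R Y h → z ∈ Y ⊓ R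
  split : ∀ r ∈ ee R Y h, ∃ d ∈ Y ⊓ R, L ≤ fixMod (cc R Y h) (d * r)
  pcc : P ≤ centralizer (cc R Y h : Set G)

theorem facts (c : Ctx p H R P Y L) {h : G} (hh : h ∈ L) (hgen : Y ⊔ cj h Y = L) : Facts p H R P Y L h := by
  set D := Y ⊓ R with hD
  set D' := cj h D with hD'
  set C := cc R Y h with hC
  set V := vv R Y h with hV
  have hhH : h ∈ H := c.lh hh
  have hD'R : D' ≤ R := (map_mono inf_le_right).trans (cj_eq (c.hr hhH)).le
  have hD'Y : D' ≤ cj h Y := map_mono inf_le_left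
  have hRD : R ≤ normalizer (D : Set G) := Cfsg.Lib.Coprime.le_normalizer_inf c.ry le_normalizer
  have hRD' : R ≤ normalizer (D' : Set G) := by
    have h1 := cj_normalizer (a := h) hRD
    rwa [cj_eq (c.hr hhH)] at h1
  have hRC : R ≤ normalizer (C : Set G) := Cfsg.Lib.Coprime.le_normalizer_inf hRD hRD'
  have hYc : Y ≤ centralizer (C : Set G) := fun y hy => mem_centralizer_iff.mpr fun z hz =>
    c.yab z (mem_inf.mp (mem_inf.mp hz).1).1 y hy
  have hY'ab : ∀ a ∈ cj h Y, ∀ b ∈ cj h Y, a * b = b * a := by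
    rintro _ ⟨a, ha, rfl⟩ _ ⟨b, hb, rfl⟩
    rw [← map_mul, ← map_mul, c.yab a ha b hb]
  have hY'c : cj h Y ≤ centralizer (C : Set G) := fun y hy => mem_centralizer_iff.mpr fun z hz =>
    hY'ab z (hD'Y (mem_inf.mp hz).2) y hy
  have hLc : L ≤ centralizer (C : Set G) := hgen.ge.trans (sup_le hYc hY'c)
  have hLC : L ≤ normalizer (C : Set G) := hLc.trans (centralizer_le_normalizer _)
  have hV0 : V ≤ R := sup_le inf_le_right hD'R
  have hLR : L ≤ normalizer (R : Set G) := c.lh.trans c.hr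
  have hbase : ∀ y ∈ Y ⊔ cj h Y, (∀ r ∈ R, ⁅y, r⁆ ∈ V) → y ∈ normalizer (V : Set G) ∧ y ∈ stab R V := by
    intro y hy hyr
    have hn : y ∈ normalizer (V : Set G) := Cfsg.Lib.Large.mem_normalizer_of_le _ fun v hv => by
      rw [show y * v * y⁻¹ = ⁅y, v⁆ * v by group]
      exact mul_mem (hyr v (hV0 hv)) hv
    exact ⟨hn, mem_stab.mpr ⟨hLR (hgen.le hy), hn, hyr⟩⟩
  have hY1 : ∀ y ∈ Y, ∀ r ∈ R, ⁅y, r⁆ ∈ V := fun y hy r hr => by
    rw [← commutatorElement_inv]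
    exact inv_mem (mem_sup_left (comm_d c hr hy))
  have hY2 : ∀ y ∈ cj h Y, ∀ r ∈ R, ⁅y, r⁆ ∈ V := fun y hy r hr => by
    rw [← commutatorElement_inv]
    exact inv_mem (mem_sup_right (comm_cj c hhH hr hy))
  have hLV : L ≤ normalizer (V : Set G) := hgen.ge.trans (sup_le
    (fun y hy => (hbase y (mem_sup_left hy) (hY1 y hy)).1)
    (fun y hy => (hbase y (mem_sup_right hy) (hY2 y hy)).1))
  have hLS : L ≤ stab R V := hgen.ge.trans (sup_le
    (fun y hy => (hbase y (mem_sup_left hy) (hY1 y hy)).2)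
    (fun y hy => (hbase y (mem_sup_right hy) (hY2 y hy)).2))
  have hRY : ∀ r ∈ R, r ∈ normalizer (Y : Set G) := fun r hr => c.ry hr
  have hDE : D ≤ ee R Y h := fun d hd => mem_inf.mpr ⟨(mem_inf.mp hd).2, mem_stab.mpr
    ⟨hRY d (mem_inf.mp hd).2, hRC (mem_inf.mp hd).2, fun y hy => by
      rw [commutatorElement_eq_one_iff_mul_comm.mpr (c.yab d (mem_inf.mp hd).1 y hy)]
      exact one_mem _⟩⟩
  have hfix : ∀ e ∈ ee R Y h, (∀ y ∈ cj h Y, ⁅y, e⁆ ∈ C) → L ≤ fixMod C e := fun e he h2 =>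
    hgen.ge.trans (sup_le (fun y hy => ⟨hLC (c.yl hy), by
      rw [← commutatorElement_inv]
      exact inv_mem ((mem_stab.mp (mem_inf.mp he).2).2.2 y hy)⟩)
      (fun y hy => ⟨hLC (hgen.le (mem_sup_right hy)), h2 y hy⟩))
  have hVprod : ∀ z ∈ V, ∃ d ∈ D, ∃ e ∈ D', d * e = z := fun z hz =>
    (Cfsg.Lib.Coprime.mem_sup_of_le_normalizer (hD'R.trans hRD)).mp hz
  refine ⟨hV0, hLV, hLS, hLC, hLc, hRD, hRD', hRC, hDE, fun z hz hzE => ?_, fun r hr => ?_, ?_⟩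
  · obtain ⟨d, hd, e, he, rfl⟩ := hVprod z hz
    have heE : e ∈ ee R Y h := by
      have := mul_mem (inv_mem (hDE hd)) hzE
      rwa [inv_mul_cancel_left] at this
    have hL : L ≤ fixMod C e := hfix e heE fun y hy => by
      rw [commutatorElement_eq_one_iff_mul_comm.mpr (hY'ab y hy e (hD'Y he))]
      exact one_mem _
    have h1 := (hL (inv_mem hh)).2
    obtain ⟨d0, hd0, rfl⟩ := he
    have e1 : ⁅h⁻¹, (MulAut.conj h).toMonoidHom d0⁆ = d0 * ((MulAut.conj h).toMonoidHom d0)⁻¹ := by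
      show ⁅h⁻¹, h * d0 * h⁻¹⁆ = d0 * (h * d0 * h⁻¹)⁻¹
      group
    rw [e1] at h1
    refine mul_mem hd ?_
    have h2 := mul_mem (inv_mem (mem_inf.mp h1).1) hd0
    rwa [mul_inv_rev, inv_inv, mul_assoc, inv_mul_cancel, mul_one] at h2
  · obtain ⟨hrR, hrs⟩ := mem_inf.mp hr
    have hv : ⁅h, r⁆ ∈ D' ⊔ D := by
      rw [sup_comm]
      exact (mem_stab.mp (hLS hh)).2.2 r hrR
    obtain ⟨e, he, d, hd, hed⟩ := (Cfsg.Lib.Coprime.mem_sup_of_le_normalizer
      (inf_le_right.trans hRD' : D ≤ normalizer (D' : Set G))).mp hv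
    refine ⟨d, hd, hfix (d * r) (mul_mem (hDE hd) hr) fun y hy => ?_⟩
    have hm : d * r = e⁻¹ * (h * r * h⁻¹) := by
      have : e * d * r = h * r * h⁻¹ := by rw [hed]; group
      rw [← this]; group
    rw [hm, show ⁅y, e⁻¹ * (h * r * h⁻¹)⁆ = ⁅y, e⁻¹⁆ * (e⁻¹ * ⁅y, h * r * h⁻¹⁆ * e⁻¹⁻¹) by group,
      commutatorElement_eq_one_iff_mul_comm.mpr (hY'ab y hy e⁻¹ (hD'Y (inv_mem he))), one_mul]
    refine (mem_normalizer_iff.mp (hRC (hD'R (inv_mem he))) _).mp ?_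
    obtain ⟨y0, hy0, rfl⟩ := hy
    rw [show ⁅(MulAut.conj h).toMonoidHom y0, h * r * h⁻¹⁆ = h * ⁅y0, r⁆ * h⁻¹ by
      show ⁅h * y0 * h⁻¹, h * r * h⁻¹⁆ = _
      group]
    refine (mem_normalizer_iff.mp (hLC hh) _).mp ?_
    rw [← commutatorElement_inv]
    exact inv_mem ((mem_stab.mp hrs).2.2 y0 hy0)
  · exact c.pc.trans (centralizer_le (SetLike.coe_subset_coe.mpr (inf_le_left.trans inf_le_left)))

theorem key (c : Ctx p H R P Y L) {h : G} (hh : h ∈ L) (hgen : Y ⊔ cj h Y = L) {u : G} (hu : u ∈ L)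
    (hcomm : cj u Y ≤ centralizer (Y : Set G)) : u ∈ normalizer (Y : Set G) := by
  obtain ⟨hV0, hLV, hLS, hLC, -, hRD, -, hRC, hDE, hint, hsplit, hPC⟩ := facts c hh hgen
  set D := Y ⊓ R with hD
  set E := ee R Y h with hE
  have huH : u ∈ H := c.lh hu
  have huR : u ∈ normalizer (R : Set G) := c.hr huH
  have huD : u ∈ normalizer (D : Set G) := Cfsg.Lib.Large.mem_normalizer_of_le _ fun d hd => by
    have hz : u * d * u⁻¹ ∈ R := (mem_normalizer_iff.mp huR d).mp (mem_inf.mp hd).2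
    refine hint _ ((mem_normalizer_iff.mp (hLV hu) d).mp (mem_sup_left hd)) (mem_inf.mpr ⟨hz, mem_stab.mpr
      ⟨c.ry hz, hRC hz, fun y hy => ?_⟩⟩)
    rw [commutatorElement_eq_one_iff_mul_comm.mpr (show u * d * u⁻¹ * y = y * (u * d * u⁻¹) from
      (mem_centralizer_iff.mp (hcomm ⟨d, (mem_inf.mp hd).1, rfl⟩) y hy).symm)]
    exact one_mem _
  have hfix : ∀ r ∈ E, ⁅u, r⁆ ∈ D := fun r hr => by
    obtain ⟨d, hd, hL⟩ := hsplit r hr
    rw [show ⁅u, r⁆ = u * d⁻¹ * u⁻¹ * ⁅u, d * r⁆ * d by group]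
    exact mul_mem (mul_mem ((mem_normalizer_iff.mp huD _).mp (inv_mem hd))
      (inf_le_left (α := Subgroup G) (hL hu).2)) hd
  have huE : u ∈ normalizer (E : Set G) := Cfsg.Lib.Large.mem_normalizer_of_le _ fun r hr => by
    rw [show u * r * u⁻¹ = ⁅u, r⁆ * r by group]
    exact mul_mem (hDE (hfix r hr)) hr
  have hus : u ∈ stab E D := mem_stab.mpr ⟨huE, huD, hfix⟩
  set A := H ⊓ centralizer (D : Set G) ⊓ (stab R E ⊓ stab E D) with hA
  have hPD : P ≤ centralizer (D : Set G) := c.pc.trans (centralizer_le (SetLike.coe_subset_coe.mpr inf_le_left))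
  have hPR : P ≤ normalizer (R : Set G) := c.ph.trans c.hr
  have hPY : P ≤ normalizer (Y : Set G) := c.pc.trans (centralizer_le_normalizer _)
  have hPE : P ≤ normalizer (E : Set G) := Cfsg.Lib.Coprime.le_normalizer_inf hPR
    (le_normalizer_stab hPY (hPC.trans (centralizer_le_normalizer _)))
  have hPDn : P ≤ normalizer (D : Set G) := hPD.trans (centralizer_le_normalizer _)
  have hnorm : ∀ K : Subgroup G, K ≤ H → K ≤ normalizer (E : Set G) → K ≤ normalizer (D : Set G) →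
      K ≤ normalizer (A : Set G) := fun K hKH hKE hKD =>
    Cfsg.Lib.Coprime.le_normalizer_inf
      (Cfsg.Lib.Coprime.le_normalizer_inf (hKH.trans le_normalizer)
        (hKD.trans (Cfsg.Lib.Large.normalizer_centralizer_le D)))
      (Cfsg.Lib.Coprime.le_normalizer_inf (le_normalizer_stab (hKH.trans c.hr) hKE) (le_normalizer_stab hKE hKD))
  have hPA : P ≤ normalizer (A : Set G) := hnorm P c.ph hPE hPDn
  have huA : u ∈ normalizer (A : Set G) := hnorm (zpowers u) (zpowers_le.mpr huH) (zpowers_le.mpr huE)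
    (zpowers_le.mpr huD) (mem_zpowers u)
  have hAp : IsPGroup p A := by
    refine Cfsg.Lib.Easy.isPGroup_of_coprime_trivial A fun x hx hc => ?_
    obtain ⟨⟨hxH, hxD⟩, hx1, hx2⟩ := hx
    have f1 := fix_series (c.rp.to_le inf_le_right) hc (fun d hd => (mem_centralizer_iff.mp hxD d hd).symm) hx2
    have f2 := fix_series (c.rp.to_le inf_le_left) hc f1 hx1
    exact eq_one_of_p c.rp (c.charp (mem_inf.mpr ⟨hxH, mem_centralizer_iff.mpr fun r hr => (f2 r hr).symm⟩)) hc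
  have hPs : P ≤ stab R E := fun q hq => mem_stab.mpr ⟨hPR hq, hPE hq, fun r hr => by
    have hqr : ⁅q, r⁆ ∈ R := by
      rw [commutatorElement_def]
      exact mul_mem ((mem_normalizer_iff.mp (hPR hq) r).mp hr) (inv_mem hr)
    refine mem_inf.mpr ⟨hqr, mem_stab.mpr ⟨c.ry hqr, hRC hqr, fun y hy => ?_⟩⟩
    have hq' : ∀ z ∈ Y, q * z = z * q := fun z hz => (mem_centralizer_iff.mp (c.pc hq) z hz).symm
    have hy' : r⁻¹ * y * r ∈ Y := by
      simpa using (mem_normalizer_iff.mp (inv_mem (c.ry hr)) y).mp hy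
    have e1 : q⁻¹ * y * q = y := by rw [mul_assoc, ← hq' y hy, inv_mul_cancel_left]
    have e2 : q * (r⁻¹ * y * r) * q⁻¹ = r⁻¹ * y * r := by rw [hq' _ hy', mul_inv_cancel_right]
    have e3 : ⁅q, r⁆ * y * ⁅q, r⁆⁻¹ = y := by
      calc ⁅q, r⁆ * y * ⁅q, r⁆⁻¹ = q * r * (q⁻¹ * (r⁻¹ * y * r) * q) * r⁻¹ * q⁻¹ := by group
        _ = q * r * (r⁻¹ * y * r) * r⁻¹ * q⁻¹ := by
          rw [show q⁻¹ * (r⁻¹ * y * r) * q = r⁻¹ * y * r by rw [mul_assoc, ← hq' _ hy', inv_mul_cancel_left]]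
        _ = q * y * q⁻¹ := by group
        _ = y := by rw [hq' y hy, mul_inv_cancel_right]
    rw [commutatorElement_def, e3, mul_inv_cancel]
    exact one_mem _⟩
  have hcm : ∀ q ∈ P, u * q * u⁻¹ * q⁻¹ ∈ A := fun q hq => by
    have hn : ∀ X W : Subgroup G, u ∈ normalizer (X : Set G) → u ∈ normalizer (W : Set G) →
        u ∈ normalizer (stab X W : Set G) := fun X W h1 h2 =>
      le_normalizer_stab (zpowers_le.mpr h1) (zpowers_le.mpr h2) (mem_zpowers u)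
    refine mem_inf.mpr ⟨mem_inf.mpr ⟨mul_mem (mul_mem (mul_mem huH (c.ph hq)) (inv_mem huH)) (inv_mem (c.ph hq)),
      mul_mem ((mem_normalizer_iff.mp (Cfsg.Lib.Large.normalizer_centralizer_le D huD) q).mp (hPD hq))
        (inv_mem (hPD hq))⟩, mem_inf.mpr ⟨mul_mem ((mem_normalizer_iff.mp (hn R E huR huE) q).mp (hPs hq))
          (inv_mem (hPs hq)), ?_⟩⟩
    rw [mul_assoc, mul_assoc]
    refine mul_mem hus ?_
    rw [← mul_assoc]
    exact (mem_normalizer_iff.mp (le_normalizer_stab hPE hPDn hq) _).mp (inv_mem hus)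
  refine c.weak (A ⊔ P) (hAp.to_sup_of_normal_left' c.pp hPA) le_sup_right ?_
  refine mem_normalizer_iff_map_conj_eq.mpr (Subgroup.eq_of_le_of_card_ge ?_ (Cfsg.Lib.Transfer.card_map_conj _ u).ge)
  rw [Subgroup.map_sup]
  refine sup_le ((cj_eq huA).le.trans le_sup_left) ?_
  rintro _ ⟨q, hq, rfl⟩
  show u * q * u⁻¹ ∈ _
  rw [show u * q * u⁻¹ = u * q * u⁻¹ * q⁻¹ * q by group]
  exact mul_mem (mem_sup_left (hcm q hq)) (mem_sup_right hq)

theorem step (c : Ctx p H R P Y L) {h : G} (hh : h ∈ L) (hgen : Y ⊔ cj h Y = L) {O : Subgroup G} {u : G}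
    (hu : u ∈ L) (hYO : Y ≤ O) (hO : O ≤ normalizer (Y : Set G)) (huO : u ∈ normalizer (O : Set G)) :
    u ∈ normalizer (Y : Set G) := by
  refine key c hh hgen hu (commute_of_asym c.asym u ?_ ((map_mono hYO).trans ((cj_eq huO).le.trans hO)))
  have h1 := cj_normalizer (a := u) hO
  rw [cj_eq huO] at h1
  exact hYO.trans h1

theorem exists_gen (c : Ctx p H R P Y L) : ∃ h ∈ L, Y ⊔ cj h Y = L := by
  have hYp := yp_isPGroup c
  by_contra hne
  push Not at hne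
  refine c.yo ?_
  obtain ⟨N, hN, hNp, hle⟩ := Cfsg.Lib.BaerSuzuki.baer_suzuki (p := p) (Y.subgroupOf L) fun g => by
    set X := Y ⊔ cj (g : G) Y
    have hgY : cj (g : G) Y ≤ L := (map_mono c.yl).trans (cj_eq (le_normalizer g.2)).le
    have hXL : X ≤ L := sup_le c.yl hgY
    have hYX : Y ≤ Cfsg.pCoreOf p X := by
      by_contra h1
      exact hne g g.2 (c.small X hXL le_sup_left h1)
    have hOp : IsPGroup p (Cfsg.pCoreOf p X) := (Cfsg.Lib.Components.isPGroup_pCore p).map _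
    have hXp : IsPGroup p X := (hOp.to_sup_of_normal_left' (hYp.map _)
      ((le_sup_right : cj (g : G) Y ≤ X).trans (le_normalizer.trans (Cfsg.Lib.Large.normalizer_pCoreOf_le X)))).to_le
      (sup_le (hYX.trans le_sup_left) le_sup_right)
    refine (hXp.comap_subtype (K := L)).to_le (sup_le (fun y hy => mem_sup_left (show (y : G) ∈ Y from hy)) ?_)
    rintro _ ⟨y, hy, rfl⟩
    exact mem_sup_right (S := Y) ⟨(y : G), hy, rfl⟩
  haveI := hN
  intro y hy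
  exact ⟨⟨y, c.yl hy⟩, Cfsg.Lib.Components.le_pCore hNp (hle (show (⟨y, c.yl hy⟩ : L) ∈ Y.subgroupOf L from hy)), rfl⟩

theorem proper_le (c : Ctx p H R P Y L) {X : Subgroup G} (hYX : Y ≤ X) (hX : X ≤ L) (hne : X ≠ L) :
    X ≤ normalizer (Y : Set G) := by
  obtain ⟨h, hh, hgen⟩ := exists_gen c
  have hYO : Y ≤ Cfsg.pCoreOf p X := by
    by_contra h1
    exact hne (c.small X hX hYX h1)
  set O := Cfsg.pCoreOf p X
  have hOX : O ≤ X := map_subtype_le _
  have hON : O ≤ normalizer (Y : Set G) := by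
    by_contra hn
    set O1 := O ⊓ normalizer (Y : Set G)
    have hlt : O1.subgroupOf O < ⊤ := by
      rw [lt_top_iff_ne_top, ne_eq, subgroupOf_eq_top]
      exact fun h1 => hn (h1.trans inf_le_right)
    haveI : Group.IsNilpotent O := IsPGroup.isNilpotent ((Cfsg.Lib.Components.isPGroup_pCore p).map _)
    obtain ⟨⟨u, huO⟩, hu, hu'⟩ := SetLike.exists_of_lt (Group.normalizerCondition_of_isNilpotent _ hlt)
    refine hu' (mem_inf.mpr ⟨huO, step c hh hgen (hX (hOX huO)) (le_inf hYO le_normalizer) inf_le_right ?_⟩)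
    exact Cfsg.Lib.Large.mem_normalizer_of_le _ fun x hx =>
      (mem_normalizer_iff.mp hu ⟨x, (mem_inf.mp hx).1⟩).mp hx
  exact fun x hx => step c hh hgen (hX hx) hYO hON (Cfsg.Lib.Large.normalizer_pCoreOf_le X (le_normalizer hx))

theorem gen_of_not_mem (c : Ctx p H R P Y L) {h : G} (hh : h ∈ L) (hn : h ∉ normalizer (Y : Set G)) :
    Y ⊔ cj h Y = L := by
  by_contra hne
  obtain ⟨g, hg, hgen⟩ := exists_gen c
  have hle : ∀ a ∈ L, cj a Y ≤ L := fun a ha => (map_mono c.yl).trans (cj_eq (le_normalizer ha)).le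
  have h1 := proper_le c le_sup_left (sup_le c.yl (hle h hh)) hne
  have h2 : Y ⊔ cj h⁻¹ Y ≤ normalizer (Y : Set G) := by
    refine proper_le c le_sup_left (sup_le c.yl (hle _ (inv_mem hh))) fun e => hne ?_
    have h3 := congrArg (cj h) e
    simp only [cj, Subgroup.map_sup] at h3
    change cj h Y ⊔ cj h (cj h⁻¹ Y) = cj h L at h3
    rwa [cj_cj, mul_inv_cancel, cj_eq (one_mem (normalizer (Y : Set G))), cj_eq (le_normalizer hh), sup_comm] at h3
  refine hn (key c hg hgen hh (commute_of_asym c.asym h ?_ (le_sup_right.trans h1)))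
  have h4 := cj_normalizer (a := h) (le_sup_right.trans h2)
  rwa [cj_cj, mul_inv_cancel, cj_eq (one_mem (normalizer (Y : Set G)))] at h4

end Cfsg.Lib.FrakHL
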